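import Cfsg.Agent.Nodes.RGDLie
import Cfsg.Agent.OddHalf.Small.ChevCent
import Cfsg.Agent.KFacts.Mult.TypeA

/-!
# Root group data with abelian torus (helper716)

* `HasRGDAb p G` : `G` has a generating root group datum of characteristic `p` whose torus is abelian;
* `ab_exc`, `ab_tw`, `ab_psl`, `ab_psp`, `ab_psu`, `ab_po_odd`, `ab_po_plus`.
(The groups `PΩ⁻`: `H716/RGDAbMinus`.)
-/

set_option autoImplicit false
set_option linter.unusedSectionVars false

namespace Cfsg.Agent.H716.RGDAb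

open Cfsg
open Cfsg.Agent.ChevalleyStructure.CoxeterGeom Cfsg.Agent.Tits.Roots
open Cfsg.Agent.Nodes.Comb Cfsg.Agent.Nodes.Reps Cfsg.Agent.Nodes.WittRoot Cfsg.Agent.Nodes.BNOf
open Cfsg.Agent.Nodes Cfsg.Agent.Nodes.RGDLib Cfsg.Agent.Nodes.WittAll Cfsg.Agent.Nodes.WittU Cfsg.Agent.Nodes.RGDChev
open Cfsg.Agent.Nodes.WittInst
open Cfsg.Agent.Nodes.WittRGD (Tor mem_Tor)
open Cfsg.Agent.TitsThree Cfsg.Agent.TitsThree.Siegel Cfsg.Agent.TitsThree.SiegelGen
  Cfsg.Agent.TitsThree.WittFrame Cfsg.Agent.TitsThree.WBridge Cfsg.Agent.TitsThree.WittWeyl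
  Cfsg.Agent.TitsThree.FrameCN

universe u

/-- A generating root group datum of characteristic `p` with abelian torus. -/
def HasRGDAb (p : ℕ) (G : Type*) [Group G] : Prop :=
  ∃ (l : ℕ) (M : CoxeterMatrix (Fin l)) (A : Fin l → Fin l → ℤ) (h : IsCartan M A) (T : Subgroup G) (n : Fin l → G)
    (X : (Fin l → ℤ) → Subgroup G), Finite M.Group ∧ RGD M.toCoxeterSystem h p T n X ∧
      RGDLib.G1 M.toCoxeterSystem h X = ⊤ ∧ ∀ s ∈ T, ∀ t ∈ T, s * t = t * s

theorem HasRGDAb.of_equiv {p : ℕ} {G H : Type*} [Group G] [Group H] (e : G ≃* H) (hG : HasRGDAb p G) :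
    HasRGDAb p H := by
  obtain ⟨l, M, A, h, T, n, X, hW, R, hX, hT⟩ := hG
  refine ⟨l, M, A, h, T.map e.toMonoidHom, fun i => e (n i), fun x => (X x).map e.toMonoidHom, hW,
    RGDLib.rgd_map_of_injective R e.toMonoidHom e.injective, ?_, ?_⟩
  · have h1 : (RGDLib.G1 M.toCoxeterSystem h X).map e.toMonoidHom =
        RGDLib.G1 M.toCoxeterSystem h (fun x => (X x).map e.toMonoidHom) := by
      unfold RGDLib.G1 RGD.Sup
      rw [Subgroup.map_iSup]
    rw [← h1, hX, Subgroup.map_top_of_surjective _ e.surjective]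
  · rintro _ ⟨s, hs, rfl⟩ _ ⟨t, ht, rfl⟩
    rw [← map_mul, ← map_mul, hT s hs t ht]

/-! ### Chevalley groups and twisted groups -/

theorem ab_group {D : Cfsg.Lie.ChevalleyDatum} {l : ℕ} {M : CoxeterMatrix (Fin l)} (hp : IsType D l M) (K : Type u)
    [Field K] [Finite K] (p : ℕ) [CharP K p] : HasRGDAb p ↥(D.group K) := by
  have : Fact p.Prime := ⟨CharP.char_is_prime K p⟩
  exact ⟨l, M, Cfsg.Agent.ChevalleyStructure.CoxeterGeomTypes.cartanOf D l, hp.isCartan, _, _, _,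
    finite_W hp M.toCoxeterSystem,
    rgd (K := K) hp M.toCoxeterSystem p, G1_eq_top hp _, fun s hs t ht =>
      Subtype.ext (OddHalf.Small.ChevCent.diag_comm hp.inList (Subgroup.mem_subgroupOf.1 hs)
        (Subgroup.mem_subgroupOf.1 ht))⟩

theorem ab_exc {p : ℕ} {G : Type*} [Group G] (hG : IsExceptionalChevChar p G) : HasRGDAb p G := by
  obtain ⟨F, _, _, _, ⟨-, ⟨e⟩⟩ | ⟨⟨e⟩⟩ | ⟨⟨e⟩⟩ | ⟨⟨e⟩⟩ | ⟨⟨e⟩⟩⟩ := hG
  · exact (ab_group (l := 2) (M := CoxeterMatrix.G₂) (by simp [IsType, typeList]) F p).of_equiv e.symm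
  · exact (ab_group (l := 4) (M := CoxeterMatrix.F₄) (by simp [IsType, typeList]) F p).of_equiv e.symm
  · exact (ab_group (l := 6) (M := CoxeterMatrix.E₆) (by simp [IsType, typeList]) F p).of_equiv e.symm
  · exact (ab_group (l := 7) (M := CoxeterMatrix.E₇) (by simp [IsType, typeList]) F p).of_equiv e.symm
  · exact (ab_group (l := 8) (M := CoxeterMatrix.E₈) (by simp [IsType, typeList]) F p).of_equiv e.symm

theorem ab_twE6 {K : Type u} [Field K] [Fintype K] {q : ℕ} (hq : IsPrimePow q) (hK : Fintype.card K = q ^ 2)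
    (p : ℕ) [CharP K p] : HasRGDAb p ↥(Cfsg.Lie.twistedE6 K q) := by
  obtain ⟨φ, hφ, hqq⟩ := Cfsg.Agent.ChevalleyStructure.TwE6Basic.exists_frob hq hK
  have : Fact p.Prime := ⟨CharP.char_is_prime K p⟩
  exact ⟨_, _, _, RGDTwE6.isCartan, _, _, _,
    RGDFold.finite_W (hp := RGDTwE6.hp) (CoxeterMatrix.F₄).toCoxeterSystem RGDTwE6.isCartan RGDTwE6.foldData,
    RGDFold.rgd _ RGDTwE6.isCartan RGDTwE6.foldData (RGDTwE6.foldGrp hφ hqq) p,
    RGDFold.G1_eq_top _ RGDTwE6.isCartan RGDTwE6.foldData (RGDTwE6.foldGrp hφ hqq) p, fun s hs t ht =>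
      Subtype.ext (OddHalf.Small.ChevCent.diag_comm RGDTwE6.hp.inList (Subgroup.mem_subgroupOf.1 hs).1
        (Subgroup.mem_subgroupOf.1 ht).1)⟩

theorem ab_twD4 {K : Type u} [Field K] [Fintype K] {q : ℕ} (hq : IsPrimePow q) (hK : Fintype.card K = q ^ 3)
    (p : ℕ) [CharP K p] : HasRGDAb p ↥(Cfsg.Lie.twistedD4 K q) := by
  obtain ⟨φ, hφ⟩ := Cfsg.Agent.ChevalleyStructure.D4Fixed.exists_frob hq hK
  have : Fact p.Prime := ⟨CharP.char_is_prime K p⟩
  exact ⟨_, _, _, RGDTwD4.isCartan, _, _, _,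
    RGDFold.finite_W (hp := RGDTwD4.hp) (CoxeterMatrix.G₂).toCoxeterSystem RGDTwD4.isCartan RGDTwD4.foldData,
    RGDFold.rgd _ RGDTwD4.isCartan RGDTwD4.foldData (RGDTwD4.foldGrp hφ (Cfsg.Agent.ChevalleyStructure.D4Fixed.twisted_le_fix hK hφ)) p,
    RGDFold.G1_eq_top _ RGDTwD4.isCartan RGDTwD4.foldData
      (RGDTwD4.foldGrp hφ (Cfsg.Agent.ChevalleyStructure.D4Fixed.twisted_le_fix hK hφ)) p, fun s hs t ht =>
      Subtype.ext (OddHalf.Small.ChevCent.diag_comm RGDTwD4.hp.inList (Subgroup.mem_subgroupOf.1 hs).1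
        (Subgroup.mem_subgroupOf.1 ht).1)⟩

theorem ab_tw {p : ℕ} {G : Type*} [Group G] (hG : IsTwistedE6D4Char p G) : HasRGDAb p G := by
  obtain ⟨K, _, _, _, q, hq, ⟨hK, ⟨e⟩⟩ | ⟨hK, ⟨e⟩⟩⟩ := hG
  · exact (ab_twE6 hq hK p).of_equiv e.symm
  · exact (ab_twD4 hq hK p).of_equiv e.symm

/-! ### Linear groups -/

theorem ab_PSL {F : Type*} [Field F] [Finite F] (n : ℕ) {p : ℕ} [Fact p.Prime] [CharP F p] :
    HasRGDAb p (Matrix.ProjectiveSpecialLinearGroup (Fin (n + 1)) F) :=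
  have : Finite (Cfsg.Agent.LieRecognition.BNCox.cA n).Group :=
    RootsA.finite_W (Cfsg.Agent.LieRecognition.BNCox.cA n).toCoxeterSystem (RootsA.isCartan n)
  ⟨n, Cfsg.Agent.LieRecognition.BNCox.cA n, RootsA.AA n, RootsA.isCartan n, _, _, _, this,
    RGDTypeA.rgd_psl _ _, RGDTypeA.G1_psl_eq_top _ _, by
      rintro _ ⟨s, hs, rfl⟩ _ ⟨t, ht, rfl⟩
      rw [← map_mul, ← map_mul, KFacts.Mult.TypeA.T_comm hs ht]⟩

/-! ### Witt frames -/

section Witt

variable {F : Type*} [Field F] {V : Type*} [AddCommGroup V] [Module F V] {H : HForm F V} {n : ℕ}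
  {Fr : Frame H (Fin n)} {G0 : Subgroup (V ≃ₗ[F] V)}

/-- an element fixing the frame and the anisotropic part -/
theorem eq_one_of_fix (hV : ∀ v, (∀ x, H.h v (Fr.b x) = 0) → v ∈ Fr.V0) {g : V ≃ₗ[F] V}
    (hb : ∀ x, g (Fr.b x) = Fr.b x) (h0 : ∀ w ∈ Fr.V0, g w = w) : g = 1 := by
  ext v
  set u : V := ∑ x, (H.h v (Fr.b (neg x)) * (Fr.η (neg x))⁻¹) • Fr.b x with hu
  have h1 : v - u ∈ Fr.V0 := by
    apply hV
    intro y
    rw [H.sub_left, sub_eq_zero]
    have h2 : H.h u (Fr.b y) = ∑ x, (H.h v (Fr.b (neg x)) * (Fr.η (neg x))⁻¹) * H.h (Fr.b x) (Fr.b y) := by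
      rw [hu]
      have : ∀ (s : Finset (Fin n × Bool)) (f : Fin n × Bool → F), H.h (∑ x ∈ s, f x • Fr.b x) (Fr.b y) =
          ∑ x ∈ s, f x * H.h (Fr.b x) (Fr.b y) := by
        intro s f
        induction s using Finset.induction_on with
        | empty => simp [H.zero_left]
        | insert a s ha ih => rw [Finset.sum_insert ha, Finset.sum_insert ha, H.add_left, H.smul_left, ih]
      exact this _ _
    rw [h2, Finset.sum_eq_single (neg y)]
    · rw [WittFrame.neg_neg, Fr.hb_neg_self]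
      have := Fr.η_ne y
      field_simp
    · intro x _ hx
      rw [Fr.hb_ne, mul_zero]
      rintro rfl
      exact hx (WittFrame.neg_neg x).symm
    · intro h; exact absurd (Finset.mem_univ _) h
  have h2 : g u = u := by
    rw [hu, map_sum]
    exact Finset.sum_congr rfl fun x _ => by rw [map_smul, hb]
  have h3 : v = (v - u) + u := by abel
  show g v = v
  rw [h3, map_add, h0 _ h1, h2]

/-- elements fixing the lines of the frame and commuting on the anisotropic part commute -/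
theorem tor_comm_of (hV : ∀ v, (∀ x, H.h v (Fr.b x) = 0) → v ∈ Fr.V0) {s t : V ≃ₗ[F] V} (hs : s ∈ Tor Fr G0)
    (ht : t ∈ Tor Fr G0) (hst : ∀ w ∈ Fr.V0, s (t w) = t (s w)) : s * t = t * s := by
  have h1 : (t * s)⁻¹ * (s * t) = 1 := by
    refine eq_one_of_fix hV (fun x => ?_) fun w hw => ?_
    · obtain ⟨l, -, hl⟩ := hs.2 x
      obtain ⟨m, -, hm⟩ := ht.2 x
      rw [id] at hl hm
      have h2 : (t * s) (Fr.b x) = (s * t) (Fr.b x) := by
        show t (s (Fr.b x)) = s (t (Fr.b x))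
        rw [hl, hm, map_smul, map_smul, hl, hm, smul_smul, smul_smul, mul_comm]
      rw [mul_apply', ← h2, ← mul_apply', inv_mul_cancel]
      rfl
    · have h2 : (t * s) w = (s * t) w := (hst w hw).symm
      rw [mul_apply', ← h2, ← mul_apply', inv_mul_cancel]
      rfl
  exact (inv_mul_eq_one.1 h1).symm

/-- the dimension of the anisotropic part -/
theorem finrank_V0 [FiniteDimensional F V] : Module.finrank F ↥Fr.V0 + 2 * n ≤ Module.finrank F V := by
  let L : V →ₗ[F] (Fin n × Bool → F) :=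
    { toFun := fun v x => H.h v (Fr.b x)
      map_add' := fun v w => by
        funext x
        exact H.add_left _ _ _
      map_smul' := fun c v => by
        funext x
        exact H.smul_left _ _ _ }
  have hL : ∀ v x, L v x = H.h v (Fr.b x) := fun v x => rfl
  have hsurj : Function.Surjective L := by
    intro φ
    refine ⟨∑ x, (φ x * (Fr.η x)⁻¹) • Fr.b (neg x), ?_⟩
    funext y
    rw [map_sum, Finset.sum_apply, Finset.sum_eq_single y]
    · rw [map_smul, Pi.smul_apply, hL, Fr.hb_neg_self, smul_eq_mul]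
      have := Fr.η_ne y
      field_simp
    · intro x _ hx
      rw [map_smul, Pi.smul_apply, hL, Fr.hb_ne, smul_zero]
      intro h
      apply hx
      rw [h, WittFrame.neg_neg]
    · intro h
      exact absurd (Finset.mem_univ _) h
  have h1 := LinearMap.finrank_range_add_finrank_ker L
  rw [LinearMap.range_eq_top.2 hsurj, finrank_top, Module.finrank_fintype_fun_eq_card, Fintype.card_prod,
    Fintype.card_fin, Fintype.card_bool] at h1
  have h2 : Fr.V0 ≤ LinearMap.ker L := by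
    intro w hw
    rw [LinearMap.mem_ker]
    funext x
    exact Fr.h0' x hw
  have h3 := Submodule.finrank_mono h2
  omega

/-- the anisotropic part has dimension at most one -/
theorem comm_V0_of_line {p : ℕ} (hA : AmbT Fr p G0) (hd : ∃ w0 : V, ∀ w ∈ Fr.V0, ∃ a : F, w = a • w0)
    {s t : V ≃ₗ[F] V} (hs : s ∈ Tor Fr G0) (ht : t ∈ Tor Fr G0) : ∀ w ∈ Fr.V0, s (t w) = t (s w) := by
  obtain ⟨w0, hw0⟩ := hd
  have hV0 : ∀ g ∈ Tor Fr G0, ∀ w ∈ Fr.V0, g w ∈ Fr.V0 := fun g hg w hw =>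
    hA.map_V0 hg.1 hg.2 (ρ := id) (fun _ => rfl) hw
  have hsc : ∀ g ∈ Tor Fr G0, ∀ w ∈ Fr.V0, ∃ a : F, g w = a • w := by
    intro g hg w hw
    obtain ⟨a, ha⟩ := hw0 w hw
    obtain ⟨b, hb⟩ := hw0 (g w) (hV0 g hg w hw)
    by_cases h0 : a = 0
    · refine ⟨0, ?_⟩
      rw [ha, h0, zero_smul, map_zero, smul_zero]
    · refine ⟨b * a⁻¹, ?_⟩
      rw [hb, ha, smul_smul, mul_assoc, inv_mul_cancel₀ h0, mul_one]
  intro w hw
  obtain ⟨l, hl⟩ := hsc s hs w hw
  obtain ⟨m, hm⟩ := hsc t ht w hw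
  rw [hl, hm, map_smul, map_smul, hl, hm, smul_smul, smul_smul, mul_comm]

/-- type `C_n` -/
theorem ab_C {K : Type*} [Group K] (M : Model Fr K) {p : ℕ} (hA : AmbT Fr p M.I) [Finite V] [Fact p.Prime] [CharP F p]
    {p0 : Fr.Adm} (hp0 : p0.c ≠ 0) (hn : 0 < n)
    (hT : ∀ s ∈ Tor Fr M.I, ∀ t ∈ Tor Fr M.I, ∀ w ∈ Fr.V0, s (t w) = t (s w)) : HasRGDAb p K :=
  ⟨n, CoxeterMatrix.B n, TypeC.A n, TypeC.isCartan n, _, _, _, TypeC.finite_W (CoxeterMatrix.B n).toCoxeterSystem,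
    rgdC_model M hA hp0 _, WittModel.G1_eq_top _ hn _, by
      rintro _ ⟨s, hs, rfl⟩ _ ⟨t, ht, rfl⟩
      rw [← map_mul, ← map_mul]
      congr 1
      exact Subtype.ext (tor_comm_of hA.V0 (Subgroup.mem_subgroupOf.1 hs) (Subgroup.mem_subgroupOf.1 ht)
        (hT _ (Subgroup.mem_subgroupOf.1 hs) _ (Subgroup.mem_subgroupOf.1 ht)))⟩

end Witt

/-! ### Unitary, symplectic and orthogonal groups -/

theorem ab_PSU {F : Type*} [Field F] [Fintype F] {q N : ℕ} (hF : Fintype.card F = q ^ 2) (hN : 3 ≤ N) {p : ℕ}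
    [Fact p.Prime] [CharP F p] : HasRGDAb p (PSU N F q) := by
  obtain ⟨m, hm⟩ : ∃ m, N = 2 * m ∨ N = 2 * m + 1 := ⟨N / 2, by omega⟩
  obtain ⟨W, -⟩ := exists_wframe hF hm
  obtain ⟨p0, hp0, -⟩ := exists_adm hF W
  have hA := AmbT.of_amb (amb_U hF W) p
  have hdim := finrank_V0 (Fr := toFrame W)
  rw [Module.finrank_fintype_fun_eq_card, Fintype.card_fin] at hdim
  refine ab_C (KInstU.model hF hN W) hA hp0 (by omega) fun s hs t ht => comm_V0_of_line hA ?_ hs ht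
  have h1 : Module.finrank F ↥(toFrame W).V0 ≤ 1 := by omega
  obtain ⟨v, hv⟩ := finrank_le_one_iff.1 h1
  refine ⟨v.1, fun w hw => ?_⟩
  obtain ⟨c, hc⟩ := hv ⟨w, hw⟩
  exact ⟨c, (congrArg Subtype.val hc).symm⟩

theorem ab_PSp {F : Type*} [Field F] [Finite F] {m : ℕ} (hm : 1 ≤ m) {p : ℕ}
    [Fact p.Prime] [CharP F p] : HasRGDAb p (PSp m F) := by
  have hA := AmbT.of_amb (amb_Sp (F := F) (m := m)) p
  refine ab_C (KInstSp.model m F) hA (p0 := SpIdent.adm 1) one_ne_zero hm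
    fun s hs t ht => comm_V0_of_line hA ⟨0, fun w hw => ⟨0, ?_⟩⟩ hs ht
  rw [smul_zero]
  exact (Submodule.mem_bot F).1 hw

section Orthogonal

open QuadraticMap
open Cfsg.Agent.LieClassical Cfsg.Agent.LieClassical.OrthCore Cfsg.Agent.LieClassical.OrthTrans
open Cfsg.Agent.LieClassical.OrthSimple Cfsg.Agent.LieClassical.OrthFinite
open Cfsg.Agent.LieClassical.OrthForms
open Cfsg.Agent.TitsThree.KSideO Cfsg.Agent.TitsThree.StdData

variable {ι : Type} [Fintype ι] [DecidableEq ι] {F : Type*} [Field F] {Q : QuadraticForm F (ι → F)} {m : ℕ}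

theorem ab_PO_odd [Finite F] (h2 : (2 : F) ≠ 0) (hm : 2 ≤ m) {p : ℕ} [Fact p.Prime] [CharP F p] :
    HasRGDAb p (Cfsg.POmega F (Cfsg.quadFormOdd m F)) := by
  rw [← coe_oddForm]
  have hG : Good (oddForm m F) := by
    apply good_of_finite (nondeg_oddForm m F h2)
    rw [Module.finrank_fintype_fun_eq_card, Fintype.card_sum, Fintype.card_sum, Fintype.card_fin,
      Fintype.card_unit]
    omega
  have hp : ((embOdd m F).ngt ⟨1, -1 ^ 2, rfl⟩).c ≠ 0 := by
    change (1 : F)⁻¹ * (-1 ^ 2) ≠ 0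
    simp
  have hA : AmbT (toFrame (wodd m F)) p (E (oddForm m F)) := AmbT.of_amb (amb_O_of_two _ h2) p
  refine ab_C (model (wodd m F) hG ⟨_, hp⟩) hA hp (by omega) fun s hs t ht => comm_V0_of_line hA ?_ hs ht
  have hdim := finrank_V0 (Fr := toFrame (wodd m F))
  rw [Module.finrank_fintype_fun_eq_card, Fintype.card_sum, Fintype.card_sum, Fintype.card_fin,
      Fintype.card_unit] at hdim
  have h1 : Module.finrank F ↥(toFrame (wodd m F)).V0 ≤ 1 := by omega
  obtain ⟨v, hv⟩ := finrank_le_one_iff.1 h1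
  refine ⟨v.1, fun w hw => ?_⟩
  obtain ⟨c, hc⟩ := hv ⟨w, hw⟩
  exact ⟨c, (congrArg Subtype.val hc).symm⟩

theorem ab_PO_plus [Finite F] (n : ℕ) {p : ℕ} [Fact p.Prime] [CharP F p] :
    HasRGDAb p (Cfsg.POmega F (Cfsg.quadFormPlus (n + 3) F)) := by
  rw [← coe_plusForm]
  have hG : Good (plusForm (n + 3) F) := by
    apply good_of_finite (nondeg_plusForm (n + 3) F)
    rw [Module.finrank_fintype_fun_eq_card, Fintype.card_sum, Fintype.card_fin]
    omega
  refine ⟨n + 3, TypeD.M (n + 1), TypeD.A (n + 1), TypeD.isCartan (n + 1), _, _, _,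
    TypeD.finite_W (TypeD.M (n + 1)).toCoxeterSystem,
    rgdD_model (wplus (n + 3) F) hG (amb_plus _) (adm_plus _) _,
    G1D_eq_top (wplus (n + 3) F) (toPOmega hG) (toPOmega_surjective hG) (adm_plus _) _, ?_⟩
  rintro _ ⟨s, hs, rfl⟩ _ ⟨t, ht, rfl⟩
  rw [← map_mul, ← map_mul]
  congr 1
  refine Subtype.ext (tor_comm_of (amb_plus (F := F) (n + 3)).V0 (Subgroup.mem_subgroupOf.1 hs)
    (Subgroup.mem_subgroupOf.1 ht) fun w hw => ?_)
  have hw0 : w = 0 := (Submodule.mem_bot F).1 hw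
  rw [hw0, map_zero, map_zero, map_zero]

end Orthogonal

end Cfsg.Agent.H716.RGDAb
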