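import Cfsg.Agent.H716.RGDAb
import Cfsg.Agent.LieClassical.OrthCenter

/-!
# The groups `PΩ⁻` in odd characteristic: root group data with abelian torus (helper716)
-/

set_option autoImplicit false
set_option linter.unusedSectionVars false

namespace Cfsg.Agent.H716.RGDAb

open Cfsg
open Cfsg.Agent.ChevalleyStructure.CoxeterGeom Cfsg.Agent.Tits.Roots
open Cfsg.Agent.Nodes.Comb Cfsg.Agent.Nodes.Reps Cfsg.Agent.Nodes.WittRoot Cfsg.Agent.Nodes.BNOf
open Cfsg.Agent.Nodes Cfsg.Agent.Nodes.RGDLib Cfsg.Agent.Nodes.WittAll Cfsg.Agent.Nodes.WittU Cfsg.Agent.Nodes.RGDChev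
open Cfsg.Agent.Nodes.WittInst
open Cfsg.Agent.Nodes.WittRGD (Tor mem_Tor)
open Cfsg.Agent.TitsThree Cfsg.Agent.TitsThree.Siegel Cfsg.Agent.TitsThree.SiegelGen
  Cfsg.Agent.TitsThree.WittFrame Cfsg.Agent.TitsThree.WBridge Cfsg.Agent.TitsThree.WittWeyl
  Cfsg.Agent.TitsThree.FrameCN
open QuadraticMap
open Cfsg.Agent.LieClassical Cfsg.Agent.LieClassical.OrthCore Cfsg.Agent.LieClassical.OrthTrans
open Cfsg.Agent.LieClassical.OrthSimple Cfsg.Agent.LieClassical.OrthFinite
open Cfsg.Agent.LieClassical.OrthForms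
open Cfsg.Agent.TitsThree.KSideO Cfsg.Agent.TitsThree.StdData

variable {F : Type*} [Field F] {m : ℕ} {a b : F}

/-- rotations of the plane with form `z² + a z w + b w²` -/
theorem rot_eq (h2 : (2 : F) ≠ 0) {x y z w : F} (hdet : x * w - y * z = 1) (h1 : x ^ 2 + a * x * z + b * z ^ 2 = 1)
    (hB : 2 * x * y + a * (x * w + z * y) + 2 * b * z * w = a) : y = -(b * z) ∧ w = x + a * z := by
  -- subtract the two solutions of the linear system
  have e1 : x * (w - (x + a * z)) - (y + b * z) * z = 0 := by linear_combination hdet - h1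
  have e2 : (2 * x + a * z) * (y + b * z) + (a * x + 2 * b * z) * (w - (x + a * z)) = 0 := by
    linear_combination hB - a * h1
  have h3 : 2 * (y + b * z) = 0 := by
    linear_combination x * e2 - (a * x + 2 * b * z) * e1 - 2 * (y + b * z) * h1
  have h4 : 2 * (w - (x + a * z)) = 0 := by
    linear_combination z * e2 + (2 * x + a * z) * e1 - 2 * (w - (x + a * z)) * h1
  constructor
  · have := (mul_eq_zero.1 h3).resolve_left h2
    linear_combination this
  · have := (mul_eq_zero.1 h4).resolve_left h2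
    linear_combination this

variable (hab : ∀ z₁ z₂ : F, z₁ ^ 2 + a * z₁ * z₂ + b * z₂ ^ 2 = 0 → z₁ = 0 ∧ z₂ = 0)

/-- the first vector of the anisotropic plane -/
def e0 (m : ℕ) (F : Type*) [Field F] : (Fin m ⊕ Fin m) ⊕ Fin 2 → F := Pi.single (Sum.inr 0) 1

/-- the second vector of the anisotropic plane -/
def e1 (m : ℕ) (F : Type*) [Field F] : (Fin m ⊕ Fin m) ⊕ Fin 2 → F := Pi.single (Sum.inr 1) 1

/-- the action of the torus on the anisotropic plane -/
theorem exists_rot [Finite F] (h2 : (2 : F) ≠ 0) (hG : Good (minusForm m F a b))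
    (hV0 : ∀ g ∈ Tor (toFrame (wminus m F a b hab)) (E (minusForm m F a b)),
      ∀ w ∈ (toFrame (wminus m F a b hab)).V0, g w ∈ (toFrame (wminus m F a b hab)).V0)
    {g : ((Fin m ⊕ Fin m) ⊕ Fin 2 → F) ≃ₗ[F] ((Fin m ⊕ Fin m) ⊕ Fin 2 → F)}
    (hg : g ∈ Tor (toFrame (wminus m F a b hab)) (E (minusForm m F a b))) :
    ∃ x z : F, g (e0 m F) = x • e0 m F + z • e1 m F ∧
      g (e1 m F) = (-(b * z)) • e0 m F + (x + a * z) • e1 m F := by
  classical
  have hgE := hg.1
  have hiso : ∀ u v, polar (minusForm m F a b) (g u) (g v) = polar (minusForm m F a b) u v :=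
    fun u v => polar_map (E_le_O hgE) u v
  have hQ : ∀ u, minusForm m F a b (g u) = minusForm m F a b u := fun u => mem_O.1 (E_le_O hgE) u
  -- the frame
  have hl : ∀ j : Fin m ⊕ Fin m, ∃ l : F, g (Pi.single (Sum.inl j) 1) = l • Pi.single (Sum.inl j) 1 := by
    rintro (i | i)
    · obtain ⟨l, -, h⟩ := hg.2 (i, true)
      exact ⟨l, h⟩
    · obtain ⟨l, -, h⟩ := hg.2 (i, false)
      exact ⟨l, h⟩
  choose l hl using hl
  have hprod : ∀ i : Fin m, l (Sum.inl i) * l (Sum.inr i) = 1 := by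
    intro i
    have h1 := hiso (Pi.single (Sum.inl (Sum.inl i)) 1) (Pi.single (Sum.inl (Sum.inr i)) 1)
    rw [hl, hl, polar_smul_left, polar_smul_right, polar_minusForm] at h1
    simp [Pi.single_apply] at h1
    exact h1
  -- the plane
  have hm0 : e0 m F ∈ (toFrame (wminus m F a b hab)).V0 := fun j => by simp [e0]
  have hm1 : e1 m F ∈ (toFrame (wminus m F a b hab)).V0 := fun j => by simp [e1]
  have h0 : ∀ j, g (e0 m F) (Sum.inl j) = 0 := hV0 g hg _ hm0
  have h1 : ∀ j, g (e1 m F) (Sum.inl j) = 0 := hV0 g hg _ hm1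
  set x := g (e0 m F) (Sum.inr 0) with hx
  set z := g (e0 m F) (Sum.inr 1) with hz
  set y := g (e1 m F) (Sum.inr 0) with hy
  set w := g (e1 m F) (Sum.inr 1) with hw
  have e0' : g (e0 m F) = x • e0 m F + z • e1 m F := by
    funext j
    rcases j with j | j
    · rw [h0]; simp [e0, e1]
    · fin_cases j
      · simp [e0, e1, hx]
      · simp [e0, e1, hz]
  have e1' : g (e1 m F) = y • e0 m F + w • e1 m F := by
    funext j
    rcases j with j | j
    · rw [h1]; simp [e0, e1]
    · fin_cases j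
      · simp [e0, e1, hy]
      · simp [e0, e1, hw]
  -- the determinant
  obtain ⟨k, hk⟩ := (omegaEquiv (minusForm m F a b)).surjective ⟨g, by rw [hG.commutator_eq_E]; exact hgE⟩
  have hkv : ∀ v, (((k : Cfsg.isometryGroup F ⇑(minusForm m F a b)) :
      Matrix.GeneralLinearGroup ((Fin m ⊕ Fin m) ⊕ Fin 2) F) :
      Matrix ((Fin m ⊕ Fin m) ⊕ Fin 2) ((Fin m ⊕ Fin m) ⊕ Fin 2) F).mulVec v = g v := by
    intro v
    rw [← omegaEquiv_apply, hk]
  have hdet := OrthCenter.det_of_mem_omega (k : Cfsg.isometryGroup F ⇑(minusForm m F a b)) k.2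
  set A := (((k : Cfsg.isometryGroup F ⇑(minusForm m F a b)) :
      Matrix.GeneralLinearGroup ((Fin m ⊕ Fin m) ⊕ Fin 2) F) :
      Matrix ((Fin m ⊕ Fin m) ⊕ Fin 2) ((Fin m ⊕ Fin m) ⊕ Fin 2) F) with hA
  have hent : ∀ i j, A i j = g (Pi.single j 1) i := by
    intro i j
    rw [← hkv, Matrix.mulVec_single_one]
    rfl
  have hblk : A = Matrix.fromBlocks (Matrix.diagonal l) 0 0 !![x, y; z, w] := by
    ext i j
    rw [hent]
    rcases i with i | i <;> rcases j with j | j
    · rw [hl, Matrix.fromBlocks_apply₁₁, Pi.smul_apply, smul_eq_mul, Matrix.diagonal_apply]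
      by_cases h : i = j
      · subst h; simp
      · rw [if_neg h, Pi.single_eq_of_ne (by simpa using h), mul_zero]
    · rw [Matrix.fromBlocks_apply₁₂, Matrix.zero_apply]
      fin_cases j
      · exact h0 i
      · exact h1 i
    · rw [hl, Matrix.fromBlocks_apply₂₁, Matrix.zero_apply]
      simp
    · rw [Matrix.fromBlocks_apply₂₂]
      fin_cases i <;> fin_cases j <;> rfl
  rw [hblk, Matrix.det_fromBlocks_zero₂₁, Matrix.det_diagonal, Fintype.prod_sum_type, ← Finset.prod_mul_distrib,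
    Finset.prod_congr rfl fun i _ => hprod i, Finset.prod_const_one, one_mul, Matrix.det_fin_two_of] at hdet
  -- the form
  have hq : x ^ 2 + a * x * z + b * z ^ 2 = 1 := by
    have h3 := hQ (e0 m F)
    rw [coe_minusForm, quadFormMinus_apply, quadFormMinus_apply] at h3
    simp only [h0, e0', Pi.add_apply, Pi.smul_apply, smul_eq_mul] at h3
    simp [e0, e1] at h3
    exact h3
  have hB : 2 * x * y + a * (x * w + z * y) + 2 * b * z * w = a := by
    have h3 := hiso (e0 m F) (e1 m F)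
    rw [e0', e1', polar_minusForm, polar_minusForm] at h3
    simp [e0, e1] at h3
    linear_combination h3
  obtain ⟨h4, h5⟩ := rot_eq h2 hdet hq hB
  exact ⟨x, z, e0', by rw [← h4, ← h5]; exact e1'⟩

/-- **`PΩ⁻_{2m+2}(F)`, `F` of odd characteristic.** -/
theorem ab_PO_minus [Finite F] (h2 : (2 : F) ≠ 0)
    (hab : ∀ z₁ z₂ : F, z₁ ^ 2 + a * z₁ * z₂ + b * z₂ ^ 2 = 0 → z₁ = 0 ∧ z₂ = 0)
    (hm : 2 ≤ m) {p : ℕ} [Fact p.Prime] [CharP F p] :
    HasRGDAb p (Cfsg.POmega F (Cfsg.quadFormMinus m F a b)) := by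
  rw [← coe_minusForm]
  have hG : Good (minusForm m F a b) := by
    apply good_of_finite (nondeg_minusForm m F a b hab)
    rw [Module.finrank_fintype_fun_eq_card, Fintype.card_sum, Fintype.card_sum, Fintype.card_fin,
      Fintype.card_fin]
    omega
  have hp : ((embMinus m F a b hab).ngt ⟨(1, 0), -nf a b (1, 0), rfl⟩).c ≠ 0 := by
    change (1 : F)⁻¹ * (-nf a b (1, 0)) ≠ 0
    simp [nf]
  have hA : AmbT (toFrame (wminus m F a b hab)) p (E (minusForm m F a b)) := AmbT.of_amb (amb_O_of_two _ h2) p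
  have hV0 : ∀ g ∈ Tor (toFrame (wminus m F a b hab)) (E (minusForm m F a b)),
      ∀ w ∈ (toFrame (wminus m F a b hab)).V0, g w ∈ (toFrame (wminus m F a b hab)).V0 :=
    fun g hg w hw => hA.map_V0 hg.1 hg.2 (ρ := id) (fun _ => rfl) hw
  refine ab_C (model (wminus m F a b hab) hG ⟨_, hp⟩) hA hp (by omega) fun s hs t ht w hw => ?_
  obtain ⟨x, z, hs0, hs1⟩ := exists_rot hab h2 hG hV0 hs
  obtain ⟨x', z', ht0, ht1⟩ := exists_rot hab h2 hG hV0 ht
  have hw' : ∀ j, w (Sum.inl j) = 0 := hw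
  have hwe : w = w (Sum.inr 0) • e0 m F + w (Sum.inr 1) • e1 m F := by
    funext j
    rcases j with j | j
    · rw [hw']; simp [e0, e1]
    · fin_cases j
      · simp [e0, e1]
      · simp [e0, e1]
  have c0 : s (t (e0 m F)) = t (s (e0 m F)) := by
    rw [ht0, hs0, map_add, map_smul, map_smul, map_add, map_smul, map_smul, ht0, ht1, hs0, hs1]
    simp only [smul_add, smul_smul]
    module
  have c1 : s (t (e1 m F)) = t (s (e1 m F)) := by
    rw [ht1, hs1, map_add, map_smul, map_smul, map_add, map_smul, map_smul, ht0, ht1, hs0, hs1]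
    simp only [smul_add, smul_smul]
    module
  rw [hwe]
  simp only [map_add, map_smul]
  rw [c0, c1]

end Cfsg.Agent.H716.RGDAb
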