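import Cfsg.Agent.H727.CosetZero
import Cfsg.Agent.H713.Van
import Cfsg.Agent.S0173
import Cfsg.Agent.Characters.Linear
import Cfsg.Agent.Lib.NormalAbelian

/-!
# Simple groups with at most two outer automorphisms have `VZ` elements (helper716)

* `exists_zero` : Burnside: nonlinear irreducible characters have zeros;
* `exists_fixed` : a group with a nontrivial class invariant under `α` has a nontrivial `α`-invariant irreducible
  character;
* **`exists_vz`** : `S` simple of even order, `|Out S| ≤ 2`: there is a `VZ` element.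
-/

set_option autoImplicit false

namespace Cfsg.Agent.H716.VzOut

open Cfsg Subgroup Cfsg.Agent.H713
open Cfsg.Agent.Characters.Core
open scoped ComplexConjugate

/-- **Burnside.** -/
theorem exists_zero {G : Type*} [Group G] [Finite G] {χ : G → ℂ} (hχ : IsIrrCharacter G χ) (h1 : χ 1 ≠ 1) :
    ∃ g, χ g = 0 := by
  classical
  have := Fintype.ofFinite G
  have hc := isIrr_isCharacter hχ
  have h2 : IsCharacter G (fun g => χ g * conj (χ g)) := isCharacter_mul hc (isCharacter_conj hc)
  obtain ⟨g, hg⟩ := Cfsg.Agent.H727.CosetZero.exists_zero_of_nonneg h2 (fun g => by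
    refine ⟨Complex.normSq (χ g), Complex.normSq_nonneg _, ?_⟩
    exact Complex.mul_conj _) (by
    have h3 := classInner_irr_self hχ
    rw [classInner_def] at h3
    have h4 : (Nat.card G : ℂ) ≠ 0 := card_ne_zero_complex
    field_simp at h3
    exact h3) (by
    obtain ⟨n, hn, hn1⟩ := isIrr_apply_one hχ
    rw [hn1]
    intro h3
    apply h1
    rw [hn1]
    simp only [map_natCast] at h3
    have h4 : n * n = 1 := by exact_mod_cast h3
    have h5 : n = 1 := Nat.eq_one_of_mul_eq_one_right h4
    rw [h5, Nat.cast_one])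
  rcases mul_eq_zero.1 hg with h | h
  · exact ⟨g, h⟩
  · exact ⟨g, by simpa using h⟩

/-- linear characters of nonabelian simple groups -/
theorem eq_one_of_linear {S : Type*} [Group S] [IsSimpleGroup S] (hna : ∃ a b : S, a * b ≠ b * a) {χ : S → ℂ}
    (hχ : IsIrrCharacter S χ) (h1 : χ 1 = 1) : ∀ g, χ g = 1 := by
  obtain ⟨f, hf⟩ := Cfsg.Agent.Characters.Linear.exists_hom_of_isIrrCharacter hχ h1
  have h2 : f.ker = ⊤ := by
    rcases (inferInstance : f.ker.Normal).eq_bot_or_eq_top with h | h
    · exfalso
      obtain ⟨a, b, hab⟩ := hna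
      apply hab
      apply (MonoidHom.ker_eq_bot_iff f).1 h
      rw [map_mul, map_mul, mul_comm]
    · exact h
  intro g
  have h3 : g ∈ f.ker := by rw [h2]; trivial
  rw [hf]
  have h4 : f g = 1 := h3
  show ((f g : ℂˣ) : ℂ) = 1
  rw [h4, Units.val_one]

/-- a character invariant under an automorphism -/
theorem exists_fixed {S : Type*} [Group S] [Finite S] (α : MulAut S) {s : S} (hs1 : s ≠ 1) (hs : α s = s) :
    ∃ χ : IrrCharacter S, (χ : S → ℂ) ∘ α = (χ : S → ℂ) ∧ ∃ g, (χ : S → ℂ) g ≠ 1 := by
  classical
  have hbr := Cfsg.Agent.S0173.result (G := S) α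
  by_contra hcon
  push Not at hcon
  have := finite_irr (G := S)
  have h1 : Nat.card {χ : IrrCharacter S // (χ : S → ℂ) ∘ α = (χ : S → ℂ)} ≤ 1 := by
    rw [Finite.card_le_one_iff_subsingleton]
    constructor
    rintro ⟨a, ha⟩ ⟨b, hb⟩
    apply Subtype.ext
    apply Subtype.ext
    funext g
    rw [hcon a ha g, hcon b hb g]
  rw [← hbr, Finite.card_le_one_iff_subsingleton] at h1
  have h2 := h1.elim ⟨ConjClasses.mk 1, by
      show ConjClasses.mk (α 1) = ConjClasses.mk 1
      rw [map_one]⟩ ⟨ConjClasses.mk s, by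
      show ConjClasses.mk (α s) = ConjClasses.mk s
      rw [hs]⟩
  have h3 := congrArg Subtype.val h2
  have h4 : IsConj (1 : S) s := ConjClasses.mk_eq_mk_iff_isConj.1 h3
  rw [isConj_one_right] at h4
  exact hs1 h4

/-- **`VZ` elements.** -/
theorem exists_vz {S : Type*} [Group S] [Finite S] [IsSimpleGroup S] (hna : ∃ a b : S, a * b ≠ b * a)
    (h2 : 2 ∣ Nat.card S) (hout : (MulAut.conj : S →* MulAut S).range.index ≤ 2) : ∃ x : S, VZ S x := by
  classical
  have hp2 : Fact (Nat.Prime 2) := ⟨Nat.prime_two⟩
  set I : Subgroup (MulAut S) := (MulAut.conj : S →* MulAut S).range with hI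
  have hIn : I.Normal := by
    constructor
    rintro _ ⟨s, rfl⟩ β
    refine ⟨β s, ?_⟩
    ext z
    show β s * z * (β s)⁻¹ = β (s * β⁻¹ z * s⁻¹)
    rw [map_mul, map_mul, map_inv, MulAut.apply_inv_self]
  have hcenter : ∀ s : S, MulAut.conj s = 1 → s = 1 := by
    intro s hs
    have h3 : center S = ⊥ := by
      rcases (inferInstance : (center S).Normal).eq_bot_or_eq_top with h | h
      · exact h
      · exfalso
        obtain ⟨a, b, hab⟩ := hna
        apply hab
        have : a ∈ center S := by rw [h]; trivial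
        exact (mem_center_iff.1 this b).symm
    have h4 : s ∈ center S := by
      rw [mem_center_iff]
      intro g
      have h5 : MulAut.conj s g = g := by rw [hs]; rfl
      rw [MulAut.conj_apply] at h5
      exact (mul_inv_eq_iff_eq_mul.1 h5).symm
    rw [h3] at h4
    exact mem_bot.1 h4
  -- an automorphism representing the outer automorphisms and a fixed point
  obtain ⟨τ, s, hs1, hs, hτ⟩ : ∃ (τ : MulAut S) (s : S), s ≠ 1 ∧ τ s = s ∧
      ∀ β : MulAut S, β ∈ I ∨ β * τ⁻¹ ∈ I := by
    have hI0 : I.index ≠ 0 := I.index_ne_zero_of_finite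
    obtain h | h : I.index = 1 ∨ I.index = 2 := by omega
    · obtain ⟨s, hs⟩ := exists_ne (1 : S)
      refine ⟨1, s, hs, rfl, fun β => Or.inl ?_⟩
      rw [Subgroup.index_eq_one] at h
      rw [h]
      trivial
    · obtain ⟨P⟩ := (inferInstance : Nonempty (Sylow 2 (MulAut S)))
      have hPI : ¬ (P : Subgroup (MulAut S)) ≤ I := by
        intro hle
        apply P.not_dvd_index
        rw [← Subgroup.relIndex_mul_index hle, h]
        exact dvd_mul_left 2 _
      -- a central element of `P` in `I`
      have hnil : Group.IsNilpotent (P : Subgroup (MulAut S)) := P.2.isNilpotent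
      have hne : I.subgroupOf P ≠ ⊥ := by
        intro hbot
        have h3 : Nat.card P ∣ 2 := by
          have h4 : (I.subgroupOf P).index ∣ I.index := Subgroup.relIndex_dvd_index_of_normal I P
          rw [hbot, Subgroup.index_bot, h] at h4
          exact h4
        have h5 : 4 ∣ Nat.card (MulAut S) := by
          rw [← I.card_mul_index, h]
          have h6 : Nat.card I = Nat.card S := by
            refine (Nat.card_congr (MonoidHom.ofInjective (f := (MulAut.conj : S →* MulAut S)) ?_).toEquiv).symm
            rw [injective_iff_map_eq_one]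
            exact hcenter
          rw [h6]
          exact Nat.mul_dvd_mul h2 dvd_rfl
        have h7 : 2 ^ 2 ∣ Nat.card P := by
          exact P.pow_dvd_card_of_pow_dvd_card (by norm_num; exact h5)
        have h8 := Nat.le_of_dvd (by norm_num) (h7.trans h3)
        norm_num at h8
      have h3 := Cfsg.Agent.Lib.NormalAbelian.normal_inf_center_ne_bot (I.subgroupOf P) hne
      obtain ⟨z, hz1⟩ := (Subgroup.ne_bot_iff_exists_ne_one).1 h3
      obtain ⟨s, hs⟩ := z.2.1
      obtain ⟨t, htP, htI⟩ := SetLike.not_le_iff_exists.1 hPI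
      have hs' : MulAut.conj s = ((z : (P : Subgroup (MulAut S))) : MulAut S) := hs
      refine ⟨t, s, ?_, ?_, fun β => ?_⟩
      · rintro rfl
        apply hz1
        apply Subtype.ext
        apply Subtype.ext
        show ((z : (P : Subgroup (MulAut S))) : MulAut S) = 1
        rw [← hs', map_one]
      · have h4 : t * MulAut.conj s = MulAut.conj s * t := by
          rw [hs']
          exact congrArg Subtype.val (Subgroup.mem_center_iff.1 z.2.2 ⟨t, htP⟩)
        have h5 : MulAut.conj ((t s) * s⁻¹) = 1 := by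
          have h6 : MulAut.conj (t s) = t * MulAut.conj s * t⁻¹ := by
            ext y
            show t s * y * (t s)⁻¹ = t (s * t⁻¹ y * s⁻¹)
            rw [map_mul, map_mul, map_inv, MulAut.apply_inv_self]
          rw [map_mul, h6, h4, map_inv]
          group
        exact mul_inv_eq_one.1 (hcenter _ h5)
      · by_cases hβ : β ∈ I
        · exact Or.inl hβ
        · right
          rw [Subgroup.mul_mem_iff_of_index_two h]
          exact ⟨fun h => absurd h hβ, fun h => absurd (by simpa using inv_mem h) htI⟩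
  obtain ⟨χ, hχ, g0, hg0⟩ := exists_fixed τ hs1 hs
  obtain ⟨x, hx⟩ := exists_zero χ.2 (fun h => hg0 (eq_one_of_linear hna χ.2 h g0))
  refine ⟨x, χ, fun β => ?_⟩
  have hinn : ∀ β ∈ I, ∀ y, (χ : S → ℂ) (β y) = (χ : S → ℂ) y := by
    rintro _ ⟨s, rfl⟩ y
    exact isIrr_isClassFunction χ.2 y s
  rcases hτ β with h | h
  · rw [hinn β h, hx]
  · have h3 : β x = (β * τ⁻¹) (τ x) := by
      rw [MulAut.mul_apply, MulAut.inv_apply_self]
    rw [h3, hinn _ h]
    have h4 := congrFun hχ x
    exact h4.trans hx

end Cfsg.Agent.H716.VzOut
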