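import Cfsg.Agent.H716.RegUni
import Cfsg.Agent.H395.Jordan

/-!
# Centralisers of regular unipotent elements do not contain Sylow subgroups

`S : Sys Δ G r`, `G` finite and faithful, `Δ` thick, `B / U` abelian. If `p ≠ r` and every regular unipotent element of
`U c` is centralised by a Sylow `p`-subgroup of `G`, then `p` does not divide `|G|` (`not_dvd_card`).
-/

set_option autoImplicit false
set_option linter.unusedSectionVars false

namespace Cfsg.Agent.H716.RegUni

open Cfsg.Agent.Tits.Core Cfsg.Agent.Tits.Core.Bldg Cfsg.Agent.Tits Cfsg.Agent.Tits.Opp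
open Cfsg.Agent.FixBN (Sys HasSplit Split)

variable {I : Type*} {M : CoxeterMatrix I} {W : Type*} [Group W] {cs : CoxeterSystem M W} {C : Type*}
variable {Δ : Bldg cs C} {G : Type*} [Group G] [MulAction G C] {r : ℕ}

local prefix:100 "s" => cs.simple
local prefix:100 "ℓ" => cs.length

/-- `u` is a regular unipotent element of `U c` -/
def Reg (S : Sys Δ G r) (c : C) (u : G) : Prop := u ∈ S.U c ∧ ∀ i, ∃ y, Δ.δ c y = s i ∧ u • y ≠ y

variable (S : Sys Δ G r)

include S in
theorem mem_Pan_smul {c y : C} {i : I} {b : G} (hb : b • c = c) : b • y ∈ Δ.Pan i c ↔ y ∈ Δ.Pan i c := by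
  change (b • y = c ∨ Δ.δ c (b • y) = s i) ↔ (y = c ∨ Δ.δ c y = s i)
  have h1 : Δ.δ c (b • y) = Δ.δ c y := by
    conv_lhs => rw [← hb]
    rw [S.iso]
  rw [h1]
  have h2 : b • y = c ↔ y = c := by
    constructor
    · intro h
      rw [← hb] at h
      exact smul_left_cancel b h
    · rintro rfl
      exact hb
  rw [h2]

/-- trivial on the panel `Pan i c` -/
def TrivOn (Δ : Bldg cs C) (c : C) (i : I) (u : G) : Prop := ∀ y ∈ Δ.Pan i c, u • y = y

theorem TrivOn.mul {c : C} {i : I} {u v : G} (hu : TrivOn Δ c i u) (hv : TrivOn Δ c i v) : TrivOn Δ c i (u * v) :=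
  fun y hy => by rw [mul_smul, hv y hy, hu y hy]

theorem TrivOn.inv {c : C} {i : I} {u : G} (hu : TrivOn Δ c i u) : TrivOn Δ c i u⁻¹ :=
  fun y hy => by rw [inv_smul_eq_iff, hu y hy]

include S in
theorem TrivOn.conj {c : C} {i : I} {u b : G} (hu : TrivOn Δ c i u) (hb : b • c = c) :
    TrivOn Δ c i (b⁻¹ * u * b) := by
  intro y hy
  have h1 : b • y ∈ Δ.Pan i c := (mem_Pan_smul S hb).2 hy
  rw [mul_smul, mul_smul, hu _ h1, inv_smul_smul]

variable [F : OppRes.Cox cs] [Finite W] [Finite I]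

include S in
/-- a chamber fixed by a `p`-group in the stabiliser of `c`, opposite to `c` -/
theorem exists_opp_fixed [Finite G] {p : ℕ} [hp : Fact p.Prime] [hr : Fact r.Prime] (hpr : p ≠ r) {c : C}
    (P : Subgroup G) (hP : IsPGroup p P) (hPc : ∀ g ∈ P, g • c = c) :
    ∃ d, Δ.Opp c d ∧ ∀ g ∈ P, g • d = d := by
  classical
  let α := {y : C // Δ.Opp c y}
  obtain ⟨y1, hy1⟩ := exists_opp Δ c
  have e : ↥(S.U c) ≃ α := by
    refine Equiv.ofBijective (fun u => ⟨(u : G) • y1, ?_⟩) ⟨?_, ?_⟩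
    · change Δ.δ c ((u : G) • y1) = w0 cs
      have h1 := S.iso (u : G) c y1
      rw [S.fix c u u.2] at h1
      rw [h1]
      exact hy1
    · intro u v huv
      have h1 : (u : G) • y1 = (v : G) • y1 := congrArg Subtype.val huv
      have h2 : ((v : G)⁻¹ * u) • y1 = y1 := by rw [mul_smul, h1, inv_smul_smul]
      have h3 := S.free c y1 hy1 _ ((S.U c).mul_mem ((S.U c).inv_mem v.2) u.2) h2
      exact Subtype.ext (inv_mul_eq_one.1 h3).symm
    · rintro ⟨y, hy⟩
      obtain ⟨u, hu, huy⟩ := S.trans c y1 y hy1 hy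
      exact ⟨⟨u, hu⟩, Subtype.ext huy⟩
  have hfin : Finite α := Finite.of_equiv _ e
  have hα : ¬ p ∣ Nat.card α := by
    rw [← Nat.card_congr e]
    obtain ⟨n, hn⟩ := (IsPGroup.iff_card.1 (S.isP c))
    rw [hn]
    intro h
    exact hpr ((Nat.prime_dvd_prime_iff_eq hp.1 hr.1).1 (hp.1.dvd_of_dvd_pow h))
  let act : MulAction P α :=
    { smul := fun g y => ⟨(g : G) • y.1, by
        change Δ.δ c ((g : G) • y.1) = w0 cs
        have h1 := S.iso (g : G) c y.1
        rw [hPc g g.2] at h1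
        rw [h1]
        exact y.2⟩
      one_smul := fun y => Subtype.ext (one_smul G y.1)
      mul_smul := fun g h y => Subtype.ext (mul_smul (g : G) (h : G) y.1) }
  obtain ⟨d, hd⟩ := hP.nonempty_fixed_point_of_prime_not_dvd_card (α := α) hα
  exact ⟨d.1, d.2, fun g hg => congrArg Subtype.val (hd ⟨g, hg⟩)⟩

include S in
theorem smul_eq_of_comm {c : C} {u g : G} (hu : Reg S c u) (hg : g * u = u * g) : g • c = c := by
  refine eq_of_fix S hu.1 hu.2 ?_
  rw [← mul_smul, ← hg, mul_smul, S.fix c u hu.1]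

/-- **Key step**: a Sylow `p`-subgroup in the stabiliser of `c` is trivial on the panels of `c`. -/
theorem triv_panel [Finite G] {p : ℕ} [hp : Fact p.Prime] (hth : Δ.Thick) {c : C}
    (hab : ∀ x y : G, x • c = c → y • c = c → x * y * x⁻¹ * y⁻¹ ∈ S.U c)
    (hreg : ∀ u, Reg S c u → ∃ P : Sylow p G, ∀ g ∈ P, g * u = u * g)
    (P : Sylow p G) (hPc : ∀ g ∈ P, g • c = c) {d : C} (hcd : Δ.Opp c d) (hPd : ∀ g ∈ P, g • d = d)
    (i : I) {g : G} (hg : g ∈ P) : TrivOn Δ c i g := by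
  classical
  -- the chamber `y0`
  have hlt : ℓ (s i * Δ.δ c d) < ℓ (Δ.δ c d) := by
    have h1 := F.len_mul_w0 (s i)
    rw [cs.length_simple] at h1
    have h2 : Δ.δ c d = w0 cs := hcd
    rw [h2]
    omega
  obtain ⟨y0, hy0, hy0d, -⟩ := exists_first hlt
  have hPy : ∀ g ∈ P, g • y0 = y0 := fun g hg => smul_first S hlt hy0 hy0d (hPc g hg) (hPd g hg)
  have hV : ∀ u ∈ S.U c, u • y0 = y0 → TrivOn Δ c i u := fun u hu h => S.pan c y0 i hy0 u hu h
  have hUc : ∀ u ∈ S.U c, u • c = c := S.fix c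
  have hconjU : ∀ g, g • c = c → ∀ u ∈ S.U c, g * u * g⁻¹ ∈ S.U c := by
    intro g hgc u hu
    have h1 : (S.U c).map (MulAut.conj g).toMonoidHom ≤ S.U c := by
      refine S.max c _ ((S.isP c).map _) ?_
      rintro _ ⟨v, hv, rfl⟩
      simp only [MulEquiv.coe_toMonoidHom, MulAut.conj_apply]
      rw [mul_smul, mul_smul]
      have : g⁻¹ • c = c := by rw [inv_smul_eq_iff, hgc]
      rw [this, hUc v hv, hgc]
    exact h1 ⟨u, hu, by simp⟩
  let A : Subgroup ↥(S.U c) :=
    { carrier := {u | ∀ g ∈ P, TrivOn Δ c i ((u : G)⁻¹ * (g * u * g⁻¹))}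
      one_mem' := fun g hg => by
        simp only [Subgroup.coe_one, inv_one, mul_one, mul_inv_cancel]
        exact fun y _ => one_smul G y
      mul_mem' := fun {u v} hu hv g hg => by
        have h1 := ((hu g hg).conj S (hUc v v.2)).mul (hv g hg)
        have h2 : ((u * v : ↥(S.U c)) : G)⁻¹ * (g * ((u * v : ↥(S.U c)) : G) * g⁻¹) =
            (v : G)⁻¹ * ((u : G)⁻¹ * (g * u * g⁻¹)) * v * ((v : G)⁻¹ * (g * v * g⁻¹)) := by
          rw [Subgroup.coe_mul]; group
        rw [h2]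
        exact h1
      inv_mem' := fun {u} hu g hg => by
        have h0 : (u : G)⁻¹ • c = c := by rw [inv_smul_eq_iff, hUc u u.2]
        have h1 := (hu g hg).inv.conj S h0
        have h2 : ((u⁻¹ : ↥(S.U c)) : G)⁻¹ * (g * ((u⁻¹ : ↥(S.U c)) : G) * g⁻¹) =
            ((u : G)⁻¹)⁻¹ * ((u : G)⁻¹ * (g * u * g⁻¹))⁻¹ * (u : G)⁻¹ := by
          rw [Subgroup.coe_inv]; group
        rw [h2]
        exact h1 }
  have hA : A = ⊤ := by
    by_contra hne
    obtain ⟨x, hx⟩ := H395.Jordan.exists_not_conj_mem hne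
    -- elements trivial on the panel are in `A`
    have hVA : ∀ u : ↥(S.U c), TrivOn Δ c i (u : G) → u ∈ A := by
      intro u hu g hg
      have hgc := hPc g hg
      have h0 : g⁻¹ • c = c := by rw [inv_smul_eq_iff, hgc]
      have h1 := hu.inv.mul (hu.conj S h0)
      rwa [inv_inv] at h1
    have hxy : (x : G) • y0 ≠ y0 := fun h => by
      have h1 := hx 1
      rw [inv_one, one_mul, mul_one] at h1
      exact h1 (hVA x (hV x x.2 h))
    have hxs : Δ.δ c ((x : G) • y0) = s i := by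
      have h1 := S.iso (x : G) c y0
      rw [hUc x x.2] at h1
      rw [h1, hy0]
    -- a regular element with the same action on the panel
    choose a b hab' ha hb using fun j => hth c j
    obtain ⟨u, hu, hue⟩ := exists_prescribed S c (Function.update a i y0) (Function.update b i ((x : G) • y0))
      (fun j => by
        by_cases hj : j = i
        · subst hj; rw [Function.update_self]; exact hy0
        · rw [Function.update_of_ne hj]; exact ha j)
      (fun j => by
        by_cases hj : j = i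
        · subst hj; rw [Function.update_self]; exact hxs
        · rw [Function.update_of_ne hj]; exact hb j)
    have hu0 : u • y0 = (x : G) • y0 := by
      have := hue i
      rwa [Function.update_self, Function.update_self] at this
    have hur : Reg S c u := by
      refine ⟨hu, fun j => ?_⟩
      by_cases hj : j = i
      · subst hj
        exact ⟨y0, hy0, by rw [hu0]; exact hxy⟩
      · refine ⟨a j, ha j, ?_⟩
        have := hue j
        rw [Function.update_of_ne hj, Function.update_of_ne hj] at this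
        rw [this]
        exact (hab' j).symm
    obtain ⟨P', hP'⟩ := hreg u hur
    have hP'c : ∀ g ∈ P', g • c = c := fun g hg => smul_eq_of_comm S hur (hP' g hg)
    -- conjugacy in the stabiliser of `c`
    let B := MulAction.stabilizer G c
    have h1 : (P : Subgroup G) ≤ B := fun g hg => hPc g hg
    have h2 : (P' : Subgroup G) ≤ B := fun g hg => hP'c g hg
    obtain ⟨b, hb'⟩ := MulAction.exists_smul_eq ↥B (P.subtype h1) (P'.subtype h2)
    have hbc : (b : G) • c = c := b.2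
    have h3 : ∀ g ∈ P, (b : G) * g * (b : G)⁻¹ ∈ P' := by
      intro g hg
      have h4 : (⟨g, h1 hg⟩ : ↥B) ∈ (P.subtype h1 : Subgroup ↥B) := by
        rw [Sylow.coe_subtype, Subgroup.mem_subgroupOf]
        exact hg
      have h5 : b * ⟨g, h1 hg⟩ * b⁻¹ ∈ ((b • P.subtype h1 : Sylow p ↥B) : Subgroup ↥B) := by
        rw [Sylow.coe_subgroup_smul]
        exact Subgroup.smul_mem_pointwise_smul _ (MulAut.conj b) _ h4
      rw [hb', Sylow.coe_subtype, Subgroup.mem_subgroupOf] at h5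
      exact h5
    -- `b = v h`
    have hbd : Δ.Opp c ((b : G) • d) := by
      change Δ.δ c ((b : G) • d) = w0 cs
      conv_lhs => rw [← hbc]
      rw [S.iso]
      exact hcd
    obtain ⟨v, hv, hvd⟩ := S.trans c d ((b : G) • d) hcd hbd
    have hhc : (v⁻¹ * (b : G)) • c = c := by
      rw [mul_smul, hbc, inv_smul_eq_iff, hUc v hv]
    have hhd : (v⁻¹ * (b : G)) • d = d := by
      rw [mul_smul, ← hvd, inv_smul_smul]
    have h4 : ∀ g ∈ P, (v⁻¹ * (b : G)) * g * (v⁻¹ * (b : G))⁻¹ = g := by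
      intro g hg
      have h5 := hab (v⁻¹ * (b : G)) g hhc (hPc g hg)
      have h6 : ((v⁻¹ * (b : G)) * g * (v⁻¹ * (b : G))⁻¹ * g⁻¹) • d = d := by
        have h7 : g⁻¹ • d = d := by rw [inv_smul_eq_iff, hPd g hg]
        have h8 : (v⁻¹ * (b : G))⁻¹ • d = d := by rw [inv_smul_eq_iff, hhd]
        rw [mul_smul, mul_smul, mul_smul, h7, h8, hPd g hg, hhd]
      have h7 := S.free c d hcd _ h5 h6
      exact mul_inv_eq_one.1 h7
    have h5 : ∀ g ∈ P, g * (v⁻¹ * u * v) = (v⁻¹ * u * v) * g := by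
      intro g hg
      have h6 : v * g * v⁻¹ ∈ P' := by
        have h7 := h3 g hg
        have h8 : (b : G) * g * (b : G)⁻¹ = v * ((v⁻¹ * (b : G)) * g * (v⁻¹ * (b : G))⁻¹) * v⁻¹ := by group
        rw [h8, h4 g hg] at h7
        exact h7
      have h7 := hP' _ h6
      calc g * (v⁻¹ * u * v) = v⁻¹ * ((v * g * v⁻¹) * u) * v := by group
        _ = v⁻¹ * (u * (v * g * v⁻¹)) * v := by rw [h7]
        _ = _ := by group
    -- contradiction
    refine hx ⟨v, hv⟩ ?_
    have h6 : (⟨v, hv⟩ : ↥(S.U c))⁻¹ * x * ⟨v, hv⟩ =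
        ((⟨v, hv⟩ : ↥(S.U c))⁻¹ * ⟨u, hu⟩ * ⟨v, hv⟩) *
          ((⟨v, hv⟩ : ↥(S.U c))⁻¹ * ((⟨u, hu⟩ : ↥(S.U c))⁻¹ * x) * ⟨v, hv⟩) := by group
    rw [h6]
    refine mul_mem ?_ (hVA _ ?_)
    · intro g hg
      have h7 := h5 g hg
      have h8 : (((⟨v, hv⟩ : ↥(S.U c))⁻¹ * ⟨u, hu⟩ * ⟨v, hv⟩ : ↥(S.U c)) : G) = v⁻¹ * u * v := rfl
      rw [h8]
      have h9 : (v⁻¹ * u * v)⁻¹ * (g * (v⁻¹ * u * v) * g⁻¹) = 1 := by
        rw [h7]; group
      rw [h9]
      exact fun y _ => one_smul G y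
    · have h7 : ((((⟨v, hv⟩ : ↥(S.U c))⁻¹ * ((⟨u, hu⟩ : ↥(S.U c))⁻¹ * x) * ⟨v, hv⟩ : ↥(S.U c))) : G) =
          v⁻¹ * (u⁻¹ * x) * v := rfl
      rw [h7]
      refine TrivOn.conj S (hV _ (mul_mem (inv_mem hu) x.2) ?_) (hUc v hv)
      rw [mul_smul, ← hu0, inv_smul_smul]
  -- conclusion
  intro y hy
  rcases hy with rfl | hy
  · exact hPc g hg
  · obtain ⟨x, hx, hxy, -⟩ := exists_root S hy0 hy
    have h1 : (⟨x, hx⟩ : ↥(S.U c)) ∈ A := by rw [hA]; trivial
    have h2 : (x⁻¹ * (g * x * g⁻¹)) • y0 = y0 := h1 g hg y0 (Or.inr hy0)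
    have h3 : g⁻¹ • y0 = y0 := by rw [inv_smul_eq_iff, hPy g hg]
    rw [mul_smul, mul_smul, h3, mul_smul, hxy, inv_smul_eq_iff, hxy] at h2
    exact h2

/-- **If every regular unipotent element is centralised by a Sylow `p`-subgroup, then `p` does not divide `|G|`.** -/
theorem not_dvd_card [Finite G] {p : ℕ} [hp : Fact p.Prime] [hr : Fact r.Prime] (hpr : p ≠ r) (hth : Δ.Thick) (c : C)
    (hfaith : ∀ g : G, (∀ x : C, g • x = x) → g = 1)
    (hab : ∀ x y : G, x • c = c → y • c = c → x * y * x⁻¹ * y⁻¹ ∈ S.U c)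
    (hreg : ∀ u, Reg S c u → ∃ P : Sylow p G, ∀ g ∈ P, g * u = u * g) : ¬ p ∣ Nat.card G := by
  choose a b hab' ha hb using fun j => hth c j
  obtain ⟨u, hu, hue⟩ := exists_prescribed S c a b ha hb
  have hur : Reg S c u := ⟨hu, fun j => ⟨a j, ha j, by rw [hue j]; exact (hab' j).symm⟩⟩
  obtain ⟨P, hP⟩ := hreg u hur
  have hPc : ∀ g ∈ P, g • c = c := fun g hg => smul_eq_of_comm S hur (hP g hg)
  obtain ⟨d, hcd, hPd⟩ := exists_opp_fixed S hpr P P.isPGroup' hPc
  have hbot : (P : Subgroup G) = ⊥ := by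
    rw [Subgroup.eq_bot_iff_forall]
    intro g hg
    apply hfaith
    intro x
    have h1 := Rigid.rigid (Δ := Δ) (Δ' := Δ) hth (J := Set.univ) (c := c) (d := d) (φ := fun y => g • y)
      (ψ := fun y => y) (fun a _ b _ => S.iso g a b) (fun a _ b _ => rfl)
      (fun j _ y hy => triv_panel S hth hab hreg P hPc hcd hPd j hg y hy) hcd (hPd g hg) x
      (by change Δ.δ c x ∈ WJ cs Set.univ; rw [OppRes.WJ_univ]; trivial)
    exact h1
  intro hd
  have h1 := P.dvd_card_of_dvd_card hd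
  rw [hbot, Subgroup.card_bot] at h1
  exact hp.1.one_lt.ne' (Nat.dvd_one.1 h1)

/-- **A regular unipotent element not centralised by a Sylow `p`-subgroup.** -/
theorem exists_reg [Finite G] {p : ℕ} [hp : Fact p.Prime] [hr : Fact r.Prime] (hpr : p ≠ r) (hth : Δ.Thick) (c : C)
    (hfaith : ∀ g : G, (∀ x : C, g • x = x) → g = 1)
    (hab : ∀ x y : G, x • c = c → y • c = c → x * y * x⁻¹ * y⁻¹ ∈ S.U c) (hd : p ∣ Nat.card G) :
    ∃ u, Reg S c u ∧ ∀ P : Sylow p G, ∃ g ∈ P, g * u ≠ u * g := by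
  by_contra hcon
  push Not at hcon
  exact not_dvd_card S hpr hth c hfaith hab hcon hd

end Cfsg.Agent.H716.RegUni
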