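import Cfsg.Agent.H716.SplitAb
import Cfsg.Agent.H716.RegCent

/-!
# Unipotent elements with class size divisible by a given prime (helper716)

* **`exists_uni_of_lie`** : `K` simple of Lie type in characteristic `r`, `p ≠ r` a prime divisor of `|K|`: some
  `r`-element `u` of `K` has `p ∣ |K : C_K(u)|`.
-/

set_option autoImplicit false
set_option linter.unusedSectionVars false

namespace Cfsg.Agent.H716.UniCent

open Cfsg Subgroup
open Cfsg.Agent.FixBN Cfsg.Agent.H716.RegUni
open Cfsg.Agent.Omega.ML.LieRow.CRB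

universe u

theorem exists_sylow_le {G : Type*} [Group G] [Finite G] {p : ℕ} [hp : Fact p.Prime] {H : Subgroup G}
    (h : ¬ p ∣ H.index) : ∃ P : Sylow p G, (P : Subgroup G) ≤ H := by
  obtain ⟨Q⟩ := (inferInstance : Nonempty (Sylow p H))
  have hQ := Q.card_eq_multiplicity
  have h1 : Nat.card ((Q : Subgroup H).map H.subtype) = p ^ (Nat.card G).factorization p := by
    rw [Subgroup.card_map_of_injective H.subtype_injective, hQ, ← H.card_mul_index,
      Nat.factorization_mul Nat.card_pos.ne' H.index_ne_zero_of_finite, Finsupp.add_apply,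
      Nat.factorization_eq_zero_of_not_dvd h, add_zero]
  refine ⟨Sylow.ofCard _ h1, ?_⟩
  rintro _ ⟨x, -, rfl⟩
  exact x.2

/-- A group with a split (B,N)-pair of characteristic `r` and `B/U` abelian. -/
theorem exists_uni_of_hasSplitAb {K : Type u} [Group K] [Finite K] [IsSimpleGroup K] {p r : ℕ} [hp : Fact p.Prime]
    [hr : Fact r.Prime] (h : HasSplitAb r K) (hpr : p ≠ r) (hd : p ∣ Nat.card K) :
    ∃ x : K, (∃ k, orderOf x = r ^ k) ∧ p ∣ (centralizer ({x} : Set K)).index := by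
  obtain ⟨P, U, hne, h, hab⟩ := h
  have hN : ((P.B ⊓ P.N).subgroupOf P.N).Normal := Cfsg.Agent.Tits.OfBN.normal_subgroupOf P
  obtain ⟨M, cs, hcs⟩ := Cfsg.Agent.S0320.result P
  have hI : Finite P.S := FixBN.OfBN.finite_I (Equiv.refl P.S)
  have hIn : Nonempty P.S := hne.to_subtype
  have hcore := Cfsg.Agent.Tits.OfBN.normalCore_eq_bot P hne
  have hfaith : ∀ g : K, (∀ x : K ⧸ P.B, g • x = x) → g = 1 := by
    intro g hg
    have h1 : g ∈ P.B.normalCore := by
      intro a
      have h2 := hg (QuotientGroup.mk a⁻¹)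
      rw [FixBN.OfBN.smul_mk_eq] at h2
      simpa using h2
    rw [hcore] at h1
    exact Subgroup.mem_bot.1 h1
  obtain ⟨x, hx, hx2⟩ := exists_reg (p := p) (FixBN.OfBN.sys (Equiv.refl P.S) cs hcs h) hpr
    (Cfsg.Agent.Tits.OfBN.thick P (Equiv.refl P.S) cs hcs) (QuotientGroup.mk (1 : K) : K ⧸ P.B) hfaith
    (by
      intro a b ha hb
      rw [FixBN.OfBN.smul_mk_eq] at ha hb
      change _ ∈ FixBN.OfBN.UU P U (QuotientGroup.mk (1 : K))
      rw [FixBN.OfBN.mem_UU h]
      have ha' : a ∈ P.B := by simpa using ha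
      have hb' : b ∈ P.B := by simpa using hb
      simpa using hab a ha' b hb') hd
  refine ⟨x, ?_, ?_⟩
  · have h1 : x ∈ FixBN.OfBN.UU P U (QuotientGroup.mk (1 : K)) := hx.1
    obtain ⟨k, hk⟩ := IsPGroup.iff_orderOf.1 (FixBN.OfBN.isP h (QuotientGroup.mk (1 : K))) ⟨x, h1⟩
    exact ⟨k, by rw [← hk, Subgroup.orderOf_mk]⟩
  · by_contra hcon
    obtain ⟨Q, hQ⟩ := exists_sylow_le hcon
    obtain ⟨g, hg, hne⟩ := hx2 Q
    exact hne (mem_centralizer_singleton_iff.1 (hQ hg))

/-- **Simple groups of Lie type in characteristic `r`: every prime divisor `p ≠ r` of `|K|` divides the class size of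
some `r`-element.** -/
theorem exists_uni_of_lie {K : Type u} [Group K] [Finite K] [IsSimpleGroup K] {p r : ℕ} (hp : p.Prime) (hr : r.Prime)
    (h : IsLieTypeChar r K) (hpr : p ≠ r) (hd : p ∣ Nat.card K) :
    ∃ x : K, (∃ k, orderOf x = r ^ k) ∧ p ∣ (centralizer ({x} : Set K)).index := by
  have : Fact p.Prime := ⟨hp⟩
  have : Fact r.Prime := ⟨hr⟩
  exact exists_uni_of_hasSplitAb (Cfsg.Agent.H716.SplitAb.hasSplitAb_of_lie hr h) hpr hd

end Cfsg.Agent.H716.UniCent
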