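import Cfsg.Agent.H690.Reduce
import Cfsg.Agent.H716.CopRow
import Cfsg.Agent.H395.Jordan
import Cfsg.Agent.H404.VanishBlock

/-!
# Reduction of S4952 to coprime automorphisms of simple groups (helper716)

* `VRow S` : for every prime `p ∤ #S` and every automorphism `α` of order `p` there is `x` with `VZ S x` and
  `Mov p α x`;
* **`main`** : S4952 from the rows and the existence of `VZ` elements.
-/

set_option autoImplicit false

namespace Cfsg.Agent.H716.VanRed

open Cfsg Cfsg.Agent.Characters.Core Cfsg.Agent.H713 Subgroup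
open Cfsg.Agent.H716.CopRow (Mov)
open Cfsg.Agent.Lib.MinNormal (map_conj_map_conj map_conj_one)

universe u

/-- What has to be shown for each simple group. -/
def VRow (S : Type*) [Group S] : Prop :=
  ∀ p : ℕ, p.Prime → ¬ p ∣ Nat.card S → ∀ α : MulAut S, orderOf α = p → ∃ x : S, VZ S x ∧ Mov p α x

/-- Coordinates of a non-abelian minimal normal subgroup. -/
structure Crd {G : Type u} [Group G] {m : ℕ} (N : Subgroup G) [N.Normal] (T : Fin m → Subgroup G)
    (e : N ≃* (∀ i, T i)) : Prop where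
  simple : ∀ i, IsSimpleGroup (T i)
  na : ∀ i, ∃ a b : T i, a * b ≠ b * a
  inj : Function.Injective T
  le : ∀ i, T i ≤ N
  conj : ∀ (g : G) i, ∃ j, T j = (T i).map (MulAut.conj g).toMonoidHom
  trans : ∀ i j, ∃ g : G, T j = (T i).map (MulAut.conj g).toMonoidHom
  sgl : ∀ i (t : T i), ((e.symm (Pi.mulSingle i t) : N) : G) = t
  coord : ∀ (n : N) i, e n i = 1 ↔ ∀ t ∈ T i, Commute (n : G) t

section general

variable {G : Type u} [Group G] [Finite G]

theorem exists_sylow_le {p : ℕ} [hp : Fact p.Prime] {H : Subgroup G}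
    (h : ¬ p ∣ H.index) : ∃ P : Sylow p G, (P : Subgroup G) ≤ H := by
  obtain ⟨Q⟩ := (inferInstance : Nonempty (Sylow p H))
  have hQ := Q.card_eq_multiplicity
  have h1 : Nat.card ((Q : Subgroup H).map H.subtype) = p ^ (Nat.card G).factorization p := by
    rw [Subgroup.card_map_of_injective H.subtype_injective, hQ, ← H.card_mul_index,
      Nat.factorization_mul Nat.card_pos.ne' H.index_ne_zero_of_finite, Finsupp.add_apply,
      Nat.factorization_eq_zero_of_not_dvd h, add_zero]
  refine ⟨Sylow.ofCard _ h1, ?_⟩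
  rintro _ ⟨x, -, rfl⟩
  exact x.2

theorem not_dvd_index_of_le {p : ℕ} [hp : Fact p.Prime] {H : Subgroup G} (P : Sylow p G)
    (h : (P : Subgroup G) ≤ H) : ¬ p ∣ H.index := by
  intro hd
  apply P.not_dvd_index
  rw [← Subgroup.relIndex_mul_index h]
  exact hd.mul_left _

/-- a `p`-element normalising `F` and outside `F` makes `p` divide the index of `F` -/
theorem dvd_index_of_normalizes {p : ℕ} [hp : Fact p.Prime] {F : Subgroup G} {g : G} {k : ℕ}
    (hk : g ^ p ^ k ∈ F) (hn : ∀ h ∈ F, g * h * g⁻¹ ∈ F) (hg : g ∉ F) : p ∣ F.index := by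
  have hgN : g ∈ normalizer (F : Set G) := by
    have h1 : F.map (MulAut.conj g).toMonoidHom = F := by
      apply Subgroup.eq_of_le_of_card_ge
      · rintro _ ⟨h, hh, rfl⟩
        exact hn h hh
      · rw [Subgroup.card_map_of_injective (MulAut.conj g).injective]
    rw [Subgroup.mem_normalizer_iff]
    intro h
    constructor
    · exact hn h
    · intro h2
      rw [← h1] at h2
      obtain ⟨w, hw, e1⟩ := h2
      have : w = h := (MulAut.conj g).injective e1
      exact this ▸ hw
  have hle : F ≤ normalizer (F : Set G) := Subgroup.le_normalizer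
  have hnor : (F.subgroupOf (normalizer (F : Set G))).Normal := Subgroup.normal_in_normalizer
  let g' : normalizer (F : Set G) := ⟨g, hgN⟩
  let q : normalizer (F : Set G) ⧸ F.subgroupOf (normalizer (F : Set G)) := QuotientGroup.mk g'
  have hq1 : q ≠ 1 := by
    intro h
    rw [QuotientGroup.eq_one_iff] at h
    exact hg h
  have hq2 : q ^ p ^ k = 1 := by
    have : q ^ p ^ k = QuotientGroup.mk (g' ^ p ^ k) := rfl
    rw [this, QuotientGroup.eq_one_iff]
    exact hk
  obtain ⟨j, -, hj⟩ := (Nat.dvd_prime_pow hp.1).1 (orderOf_dvd_of_pow_eq_one hq2)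
  have hj0 : j ≠ 0 := by
    rintro rfl
    rw [pow_zero, orderOf_eq_one_iff] at hj
    exact hq1 hj
  have h3 : p ∣ (F.subgroupOf (normalizer (F : Set G))).index := by
    have h4 : orderOf q ∣ Nat.card (normalizer (F : Set G) ⧸ F.subgroupOf (normalizer (F : Set G))) :=
      orderOf_dvd_natCard q
    rw [hj] at h4
    exact (dvd_pow_self p hj0).trans h4
  rw [← Subgroup.relIndex_mul_index hle]
  exact Dvd.dvd.mul_right h3 _

end general

section crd

variable {G : Type u} [Group G] {m : ℕ} {N : Subgroup G} [N.Normal] {T : Fin m → Subgroup G}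
  {e : N ≃* (∀ i, T i)}

/-- A coordinate which is `VZ` makes the element vanishing. -/
theorem Crd.van [Finite G] (C : Crd N T e) {i : Fin m} {n : N} (hx : VZ (T i) (e n i)) : Van G (n : G) := by
  classical
  obtain ⟨θ, hθ⟩ := hx
  choose g hg using fun j => C.trans i j
  have := Fintype.ofFinite (T i)
  let Θ : N → ℂ := fun n => ∏ j, (θ : T i → ℂ) ((conjIso (g j) (hg j)).symm (e n j))
  have hΘ : IsIrrCharacter N Θ := by
    have h1 := isIrr_pi (ι := Fin m) θ.2
    let E : N ≃* (Fin m → T i) := e.trans (MulEquiv.piCongrRight fun j => (conjIso (g j) (hg j)).symm)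
    exact isIrr_comp (E : N →* (Fin m → T i)) E.surjective h1
  obtain ⟨χ, hχ⟩ := exists_lift N hΘ
  refine ⟨χ, hχ n fun k => ?_⟩
  obtain ⟨j, hj⟩ := C.conj k i
  refine Finset.prod_eq_zero (Finset.mem_univ j) ?_
  have h1 := coord_conj e C.le C.sgl C.coord k i j hj n
  have h2 : e (MulAut.conjNormal k n) j = conjIso k hj (e n i) := by
    apply Subtype.ext
    rw [h1, conjIso_apply]
  rw [h2]
  exact hθ ((conjIso k hj).trans (conjIso (g j) (hg j)).symm)

/-- the coordinates of an element of a factor -/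
theorem Crd.coord_sgl (C : Crd N T e) {i : Fin m} (x : T i) : e ⟨x, C.le i x.2⟩ = Pi.mulSingle i x := by
  apply e.symm.injective
  rw [MulEquiv.symm_apply_apply]
  exact Subtype.ext (C.sgl i x).symm

theorem Crd.van_sgl [Finite G] (C : Crd N T e) {i : Fin m} {x : T i} (hx : VZ (T i) x) : Van G (x : G) := by
  have h1 : e ⟨x, C.le i x.2⟩ i = x := by rw [C.coord_sgl, Pi.mulSingle_eq_same]
  exact C.van (i := i) (n := ⟨x, C.le i x.2⟩) (by rw [h1]; exact hx)

theorem Crd.eq_of_mem (C : Crd N T e) {i j : Fin m} {x : G} (hi : x ∈ T i) (hj : x ∈ T j) (hx : x ≠ 1) : i = j := by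
  by_contra hij
  apply hx
  have h1 := C.coord_sgl (⟨x, hi⟩ : T i)
  have h2 := C.coord_sgl (⟨x, hj⟩ : T j)
  have h3 : (Pi.mulSingle i ⟨x, hi⟩ : ∀ i, T i) = Pi.mulSingle j ⟨x, hj⟩ := by rw [← h1, ← h2]
  have h4 := congrFun h3 i
  rw [Pi.mulSingle_eq_same, Pi.mulSingle_eq_of_ne hij] at h4
  exact congrArg Subtype.val h4

/-- the centraliser of an element of a factor normalises the factor -/
theorem Crd.mem_normalizer_of_comm [Finite G] (C : Crd N T e) {i : Fin m} {x : G} (hi : x ∈ T i) (hx : x ≠ 1) {h : G}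
    (hh : h * x = x * h) : h ∈ normalizer (T i : Set G) := by
  obtain ⟨j, hj⟩ := C.conj h i
  have h1 : x ∈ T j := by
    rw [hj]
    refine ⟨x, hi, ?_⟩
    show h * x * h⁻¹ = x
    rw [hh, mul_inv_cancel_right]
  obtain rfl := C.eq_of_mem hi h1 hx
  rw [Subgroup.mem_normalizer_iff]
  intro y
  conv_rhs => rw [hj]
  constructor
  · intro hy
    exact ⟨y, hy, rfl⟩
  · rintro ⟨z, hz, e1⟩
    have : z = y := (MulAut.conj h).injective e1
    exact this ▸ hz

/-! ### R5 : a `p`-element acting on a factor -/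

/-- **A `p`-element normalising but not centralising a factor.** -/
theorem Crd.exists_of_normalizes [Finite G] (C : Crd N T e) {p : ℕ} [hp : Fact p.Prime]
    (hpN : ¬ p ∣ Nat.card N) (hrow : ∀ i, VRow (T i)) {i : Fin m} {g : G} {k : ℕ} (hk : g ^ p ^ k = 1)
    (hgn : g ∈ normalizer (T i : Set G)) (hgc : g ∉ centralizer (T i : Set G)) :
    ∃ x : G, Van G x ∧ p ∣ (centralizer ({x} : Set G)).index := by
  set ρ : normalizer (T i : Set G) →* MulAut (T i) := (T i).normalizerMonoidHom with hρ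
  have hρa : ∀ (h : normalizer (T i : Set G)) (z : T i), ((ρ h z : T i) : G) = h * z * (h : G)⁻¹ :=
    fun h z => rfl
  set α0 := ρ ⟨g, hgn⟩ with hα0
  have h1 : α0 ≠ 1 := by
    intro h
    apply hgc
    rw [Subgroup.mem_centralizer_iff]
    intro z hz
    have h2 := hρa ⟨g, hgn⟩ ⟨z, hz⟩
    rw [← hα0, h] at h2
    have h3 : z = g * z * g⁻¹ := h2
    exact (eq_mul_inv_iff_mul_eq.1 h3)
  have h2 : α0 ^ p ^ k = 1 := by
    rw [hα0, ← map_pow]
    have : (⟨g, hgn⟩ : normalizer (T i : Set G)) ^ p ^ k = 1 := by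
      apply Subtype.ext
      rw [SubmonoidClass.coe_pow, Subgroup.coe_one, hk]
    rw [this, map_one]
  obtain ⟨j, -, hj⟩ := (Nat.dvd_prime_pow hp.1).1 (orderOf_dvd_of_pow_eq_one h2)
  have hj0 : j ≠ 0 := by
    rintro rfl
    rw [pow_zero, orderOf_eq_one_iff] at hj
    exact h1 hj
  obtain ⟨l, rfl⟩ := Nat.exists_eq_succ_of_ne_zero hj0
  have h3 : orderOf (α0 ^ p ^ l) = p := by
    rw [orderOf_pow_of_dvd (pow_ne_zero _ hp.1.ne_zero) (by rw [hj]; exact pow_dvd_pow _ (Nat.le_succ l)), hj]
    rw [Nat.succ_eq_add_one, pow_succ, Nat.mul_div_cancel_left _ (pow_pos hp.1.pos _)]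
  have hpT : ¬ p ∣ Nat.card (T i) := fun h => hpN (h.trans (Subgroup.card_dvd_of_le (C.le i)))
  obtain ⟨x, hx, hm⟩ := hrow i p hp.1 hpT _ h3
  refine ⟨x, C.van_sgl hx, ?_⟩
  have hA := hm ρ.range ⟨⟨g, hgn⟩ ^ p ^ l, by rw [map_pow]⟩ (by
    rintro _ ⟨s, rfl⟩
    exact ⟨⟨s, Subgroup.le_normalizer s.2⟩, MulEquiv.ext fun z => Subtype.ext rfl⟩)
  have hx1 : (x : G) ≠ 1 := by
    intro h
    have hx' : x = 1 := Subtype.ext h
    have h4 : ρ.range ≤ MulAction.stabilizer (MulAut (T i)) x := by
      intro β _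
      rw [hx']
      exact map_one β
    rw [Subgroup.relIndex_eq_one.2 h4] at hA
    exact hp.1.one_lt.ne' (Nat.dvd_one.1 hA)
  have hle : centralizer ({(x : G)} : Set G) ≤ normalizer (T i : Set G) := by
    intro h hh
    exact C.mem_normalizer_of_comm x.2 hx1 (mem_centralizer_singleton_iff.1 hh)
  have h5 : (centralizer ({(x : G)} : Set G)).subgroupOf (normalizer (T i : Set G)) =
      (MulAction.stabilizer (MulAut (T i)) x).comap ρ := by
    ext h
    rw [Subgroup.mem_subgroupOf, Subgroup.mem_comap, MulAction.mem_stabilizer_iff, mem_centralizer_singleton_iff]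
    constructor
    · intro h6
      apply Subtype.ext
      show (h : G) * x * (h : G)⁻¹ = x
      rw [h6, mul_inv_cancel_right]
    · intro h6
      have h7 : (h : G) * x * (h : G)⁻¹ = x := congrArg Subtype.val h6
      exact mul_inv_eq_iff_eq_mul.1 h7
  have h6 : (centralizer ({(x : G)} : Set G)).relIndex (normalizer (T i : Set G)) =
      (MulAction.stabilizer (MulAut (T i)) x).relIndex ρ.range := by
    rw [Subgroup.relIndex, h5, Subgroup.index_comap]
  rw [← Subgroup.relIndex_mul_index hle, h6]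
  exact Dvd.dvd.mul_right hA _

/-! ### R3 : a `p`-element permuting the factors -/

/-- The action on the factors. -/
@[reducible] noncomputable def Crd.act (C : Crd N T e) : MulAction G (Fin m) where
  smul g i := (C.conj g i).choose
  one_smul i := by
    apply C.inj
    have h := (C.conj 1 i).choose_spec
    exact h.trans (map_conj_one _)
  mul_smul g h i := by
    apply C.inj
    have h1 := (C.conj (g * h) i).choose_spec
    have h2 := (C.conj h i).choose_spec
    have h3 := (C.conj g (C.conj h i).choose).choose_spec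
    refine h1.trans (Eq.trans ?_ h3.symm)
    rw [h2, map_conj_map_conj]

theorem Crd.act_spec (C : Crd N T e) (g : G) (i : Fin m) :
    letI := C.act
    T (g • i) = (T i).map (MulAut.conj g).toMonoidHom := (C.conj g i).choose_spec

theorem Crd.smul_eq_iff (C : Crd N T e) (g : G) (i : Fin m) :
    let _ := C.act
    g • i = i ↔ (T i).map (MulAut.conj g).toMonoidHom = T i := by
  intro _
  rw [← C.act_spec]
  exact C.inj.eq_iff.symm

theorem Crd.coord_smul (C : Crd N T e) (g : G) (i : Fin m) (n : N) (h : g * n = n * g) :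
    let _ := C.act
    orderOf (e n (g • i)) = orderOf (e n i) := by
  intro _
  have h1 := coord_conj e C.le C.sgl C.coord g i (g • i) (C.act_spec g i) n
  have h2 : MulAut.conjNormal g n = n := by
    apply Subtype.ext
    rw [MulAut.conjNormal_apply, h, mul_inv_cancel_right]
  rw [h2] at h1
  rw [← Subgroup.orderOf_coe (e n (g • i)), h1, ← Subgroup.orderOf_coe (e n i)]
  exact MulEquiv.orderOf_eq (MulAut.conj g) (e n i : G)

theorem exists_prime_ne {S : Type*} [Group S] [Finite S] [IsSimpleGroup S] (h : ∃ a b : S, a * b ≠ b * a) (q : ℕ) :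
    ∃ r, r.Prime ∧ r ∣ Nat.card S ∧ r ≠ q := by
  by_contra hcon
  push Not at hcon
  obtain ⟨a, b, hab⟩ := h
  apply hab
  have h1 : Nat.card S = q ^ (Nat.card S).primeFactorsList.length :=
    Nat.eq_prime_pow_of_unique_prime_dvd Nat.card_pos.ne' fun {d} hd hd2 => hcon d hd hd2
  have hq : q.Prime := by
    have h2 : 1 < Nat.card S := Finite.one_lt_card
    have h3 := hcon _ (Nat.minFac_prime h2.ne') (Nat.minFac_dvd _)
    exact h3 ▸ Nat.minFac_prime h2.ne'
  have : Fact q.Prime := ⟨hq⟩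
  have h2 : IsPGroup q S := IsPGroup.of_card h1
  have h3 : Group.IsNilpotent S := h2.isNilpotent
  have h4 : Group.IsSolvable S := inferInstance
  exact (IsSimpleGroup.comm_iff_isSolvable.2 h4) a b

/-- **A `p`-element permuting the factors.** -/
theorem Crd.exists_of_permutes [Finite G] (C : Crd N T e) {p : ℕ} [hp : Fact p.Prime]
    (hvz : ∀ i, ∃ s : T i, VZ (T i) s) {i : Fin m} {g : G} {k : ℕ} (hk : g ^ p ^ k = 1)
    (hgn : (T i).map (MulAut.conj g).toMonoidHom ≠ T i) :
    ∃ x : G, Van G x ∧ p ∣ (centralizer ({x} : Set G)).index := by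
  classical
  let _ := C.act
  -- reduction to an element acting with order `p`
  obtain ⟨g, i, hk, hgi, hgp⟩ : ∃ (g : G) (i : Fin m), g ^ p ^ k = 1 ∧ g • i ≠ i ∧ ∀ j : Fin m, g ^ p • j = j := by
    set φ := MulAction.toPermHom G (Fin m) with hφ
    have h1 : φ g ≠ 1 := by
      intro h
      apply hgn
      exact (C.smul_eq_iff g i).1 (congrArg (fun f : Equiv.Perm (Fin m) => f i) h)
    have h2 : φ g ^ p ^ k = 1 := by rw [← map_pow, hk, map_one]
    obtain ⟨j, -, hj⟩ := (Nat.dvd_prime_pow hp.1).1 (orderOf_dvd_of_pow_eq_one h2)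
    have hj0 : j ≠ 0 := by
      rintro rfl
      rw [pow_zero, orderOf_eq_one_iff] at hj
      exact h1 hj
    obtain ⟨l, rfl⟩ := Nat.exists_eq_succ_of_ne_zero hj0
    have h3 : orderOf (φ (g ^ p ^ l)) = p := by
      rw [map_pow, orderOf_pow_of_dvd (pow_ne_zero _ hp.1.ne_zero) (by rw [hj]; exact pow_dvd_pow _ (Nat.le_succ l)),
        hj, Nat.succ_eq_add_one, pow_succ, Nat.mul_div_cancel_left _ (pow_pos hp.1.pos _)]
    have h4 : φ (g ^ p ^ l) ≠ 1 := by
      intro h
      rw [h, orderOf_one] at h3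
      exact hp.1.one_lt.ne h3
    obtain ⟨i1, hi1⟩ : ∃ i1, φ (g ^ p ^ l) i1 ≠ i1 := by
      by_contra hcon
      push Not at hcon
      exact h4 (Equiv.ext hcon)
    refine ⟨g ^ p ^ l, i1, ?_, hi1, fun j => ?_⟩
    · rw [← pow_mul, mul_comm, pow_mul, hk, one_pow]
    · have h5 : φ ((g ^ p ^ l) ^ p) = 1 := by
        rw [map_pow]
        exact orderOf_dvd_iff_pow_eq_one.1 (by rw [h3])
      exact congrArg (fun f : Equiv.Perm (Fin m) => f j) h5
  -- the orbit
  set Δ : Finset (Fin m) := (Finset.range p).image fun l => g ^ l • i with hΔ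
  have hcard : Δ.card ≤ p := Finset.card_image_le.trans (by rw [Finset.card_range])
  have hiΔ : i ∈ Δ := by
    rw [hΔ, Finset.mem_image]
    exact ⟨0, Finset.mem_range.2 hp.1.pos, by rw [pow_zero, one_smul]⟩
  have hgΔ : ∀ j ∈ Δ, g • j ∈ Δ := by
    intro j hj
    rw [hΔ, Finset.mem_image] at hj
    obtain ⟨l, hl, rfl⟩ := hj
    rw [Finset.mem_range] at hl
    rw [smul_smul, ← pow_succ']
    rcases Nat.lt_or_ge (l + 1) p with h | h
    · rw [hΔ, Finset.mem_image]
      exact ⟨l + 1, Finset.mem_range.2 h, rfl⟩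
    · have : l + 1 = p := by omega
      rw [this, hgp]
      exact hiΔ
  have hgΔ' : ∀ j ∈ Δ, g⁻¹ • j ∈ Δ := by
    have h1 : Δ.image (fun j => g • j) = Δ := by
      apply Finset.eq_of_subset_of_card_le
      · intro y hy
        rw [Finset.mem_image] at hy
        obtain ⟨j, hj, rfl⟩ := hy
        exact hgΔ j hj
      · rw [Finset.card_image_of_injective _ (MulAction.injective g)]
    intro j hj
    rw [← h1, Finset.mem_image] at hj
    obtain ⟨l, hl, rfl⟩ := hj
    rwa [inv_smul_smul]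
  -- the element
  obtain ⟨s, hs⟩ := hvz i
  have hsimple := C.simple i
  obtain ⟨r, hr, hrd, hrs⟩ := exists_prime_ne (C.na i) (orderOf s)
  have hs1 : orderOf s ≠ 1 := by
    intro h
    rw [orderOf_eq_one_iff] at h
    subst h
    obtain ⟨θ, hθ⟩ := hs
    have h1 := hθ 1
    rw [map_one] at h1
    exact isIrr_apply_one_ne_zero θ.2 h1
  have ht : ∀ j, ∃ t : T j, orderOf t = r := by
    intro j
    have : Fact r.Prime := ⟨hr⟩
    obtain ⟨a, ha⟩ := C.trans i j
    exact exists_prime_orderOf_dvd_card' r (by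
      rwa [← Nat.card_congr (conjIso a ha).toEquiv])
  choose t ht using ht
  set n : N := e.symm (Function.update (fun j => if j ∈ Δ then t j else 1) i s) with hn
  have hni : e n i = s := by rw [hn, MulEquiv.apply_symm_apply, Function.update_self]
  have hnj : ∀ j, j ≠ i → j ∈ Δ → orderOf (e n j) = r := by
    intro j hji hj
    rw [hn, MulEquiv.apply_symm_apply, Function.update_of_ne hji, if_pos hj, ht]
  have hno : ∀ j, j ≠ i → j ∉ Δ → orderOf (e n j) = 1 := by
    intro j hji hj
    rw [hn, MulEquiv.apply_symm_apply, Function.update_of_ne hji, if_neg hj, orderOf_one]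
  refine ⟨n, C.van (i := i) (by rw [hni]; exact hs), ?_⟩
  by_contra hcon
  obtain ⟨Q, hQ⟩ := exists_sylow_le hcon
  have hord : ∀ h ∈ Q, ∀ j, orderOf (e n (h • j)) = orderOf (e n j) := by
    intro h hh j
    exact C.coord_smul h j n (mem_centralizer_singleton_iff.1 (hQ hh))
  have hfi : ∀ h ∈ Q, h • i = i := by
    intro h hh
    by_contra hne
    have h1 := hord h hh i
    rw [hni] at h1
    by_cases h2 : h • i ∈ Δ
    · rw [hnj _ hne h2] at h1
      exact hrs h1
    · rw [hno _ hne h2] at h1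
      exact hs1 h1.symm
  have hfj : ∀ h ∈ Q, ∀ j ∈ Δ.erase i, h • j ∈ Δ.erase i := by
    intro h hh j hj
    rw [Finset.mem_erase] at hj ⊢
    have h1 := hord h hh j
    rw [hnj j hj.1 hj.2] at h1
    have h2 : h • j ≠ i := by
      intro h2
      rw [h2, hni] at h1
      exact hrs h1.symm
    refine ⟨h2, ?_⟩
    by_contra h3
    rw [hno _ h2 h3] at h1
    exact hr.one_lt.ne h1
  have hfix : ∀ h ∈ Q, ∀ j ∈ Δ, h • j = j := by
    intro h hh j hj
    rcases eq_or_ne j i with rfl | hji
    · exact hfi h hh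
    obtain ⟨b, hb⟩ := Q.2.card_orbit j
    have h1 : (MulAction.orbit (Q : Subgroup G) j) ⊆ (Δ.erase i : Set (Fin m)) := by
      rintro _ ⟨h', rfl⟩
      exact hfj h' h'.2 j (Finset.mem_erase.2 ⟨hji, hj⟩)
    have h2 : Nat.card (MulAction.orbit (Q : Subgroup G) j) ≤ (Δ.erase i).card := by
      rw [← Set.ncard_coe_finset, ← Nat.card_coe_set_eq]
      exact Nat.card_mono (Set.toFinite _) h1
    rw [Finset.card_erase_of_mem hiΔ, hb] at h2
    have h3 : b = 0 := by
      by_contra hb0
      have h4 : p ^ 1 ≤ p ^ b := Nat.pow_le_pow_right hp.1.pos (Nat.one_le_iff_ne_zero.2 hb0)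
      have := hp.1.pos
      rw [pow_one] at h4
      omega
    rw [h3, pow_zero] at hb
    have h4 : Subsingleton (MulAction.orbit (Q : Subgroup G) j) := (Nat.card_eq_one_iff_unique.1 hb).1
    have h5 := h4.elim ⟨(⟨h, hh⟩ : (Q : Subgroup G)) • j, ⟨_, rfl⟩⟩ ⟨j, MulAction.mem_orbit_self _⟩
    exact congrArg Subtype.val h5
  let F : Subgroup G := fixingSubgroup G (Δ : Set (Fin m))
  have hF : ∀ h, h ∈ F ↔ ∀ j ∈ Δ, h • j = j := by
    intro h
    rw [mem_fixingSubgroup_iff]
    rfl
  have hQF : (Q : Subgroup G) ≤ F := fun h hh => (hF h).2 (hfix h hh)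
  apply not_dvd_index_of_le Q hQF
  refine dvd_index_of_normalizes (g := g) (k := k) (by rw [hk]; exact one_mem _) ?_ ?_
  · intro h hh
    rw [hF] at hh ⊢
    intro j hj
    rw [mul_smul, mul_smul, hh _ (hgΔ' j hj), smul_inv_smul]
  · intro h
    exact hgi ((hF g).1 h i hiΔ)

end crd

/-! ### R4 : the Sylow subgroups centralise `N` -/

section cent

variable {G : Type u} [Group G] [Finite G]

theorem commute_of_sylow_le_centralizer {p : ℕ} [hp : Fact p.Prime] (N : Subgroup G) [N.Normal]
    (hmin : ∀ M : Subgroup G, M.Normal → M ≤ N → M = ⊥ ∨ M = N)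
    (hna : ¬ ∀ x ∈ N, ∀ y ∈ N, Commute x y)
    (hvz : ∀ (S : Type u) [Group S] [Finite S] [IsSimpleGroup S], (∃ a b : S, a * b ≠ b * a) → ∃ x : S, VZ S x)
    (hcon : ∀ g : G, Van G g → ¬ p ∣ (centralizer ({g} : Set G)).index) (P : Sylow p G)
    (hP : (P : Subgroup G) ≤ centralizer (N : Set G)) :
    ∀ u ∈ P, ∀ g : G, g * u * g⁻¹ ∈ P := by
  set C : Subgroup G := centralizer (N : Set G) with hC
  have hCn : C.Normal := inferInstance
  -- a vanishing element of the quotient
  obtain ⟨x, hxN, hx⟩ : ∃ x ∈ N, Van (G ⧸ C) (QuotientGroup.mk' C x) := by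
    have hdisj : ∀ x ∈ N, x ∈ C → x = 1 := by
      intro x hx hxC
      rcases hmin (N ⊓ C) inferInstance inf_le_left with h | h
      · have : x ∈ N ⊓ C := ⟨hx, hxC⟩
        rw [h] at this
        exact Subgroup.mem_bot.1 this
      · exfalso
        apply hna
        intro a ha b hb
        have h1 : a ∈ N ⊓ C := by rw [h]; exact ha
        exact (Subgroup.mem_centralizer_iff.1 h1.2 b hb).symm
    have hNn : (N.map (QuotientGroup.mk' C)).Normal :=
      Subgroup.Normal.map inferInstance _ (QuotientGroup.mk'_surjective C)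
    obtain ⟨T, hTN, hTs, hTna, hT⟩ := Cfsg.Agent.H690.Reduce.van_of_minimal (N.map (QuotientGroup.mk' C)) (by
      intro M hM hMN
      rcases hmin (N ⊓ M.comap (QuotientGroup.mk' C)) inferInstance inf_le_left with h | h
      · left
        rw [eq_bot_iff]
        intro y hy
        obtain ⟨n, hn, rfl⟩ := hMN hy
        have h1 : n ∈ N ⊓ M.comap (QuotientGroup.mk' C) := ⟨hn, hy⟩
        rw [h] at h1
        rw [Subgroup.mem_bot.1 h1, map_one]
        exact one_mem _
      · right
        apply le_antisymm hMN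
        rintro _ ⟨n, hn, rfl⟩
        have h1 : n ∈ N ⊓ M.comap (QuotientGroup.mk' C) := by rw [h]; exact hn
        exact h1.2) (by
      intro h
      apply hna
      intro a ha b hb
      have h1 := h _ ⟨a, ha, rfl⟩ _ ⟨b, hb, rfl⟩
      have h2 : a * b * a⁻¹ * b⁻¹ ∈ C := by
        rw [← QuotientGroup.eq_one_iff]
        have h3 : QuotientGroup.mk' C a * QuotientGroup.mk' C b = QuotientGroup.mk' C b * QuotientGroup.mk' C a := h1
        have h4 : ((a * b * a⁻¹ * b⁻¹ : G) : G ⧸ C) =
          QuotientGroup.mk' C a * QuotientGroup.mk' C b * (QuotientGroup.mk' C a)⁻¹ * (QuotientGroup.mk' C b)⁻¹ := rfl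
        rw [h4, h3]
        group
      have h5 := hdisj _ (mul_mem (mul_mem (mul_mem ha hb) (inv_mem ha)) (inv_mem hb)) h2
      have h6 : a * b = b * a := by
        have := mul_inv_eq_one.1 h5
        exact mul_inv_eq_iff_eq_mul.1 this
      exact h6)
    have := hTs
    obtain ⟨y, hy⟩ := hvz T hTna
    obtain ⟨n, hn, hne⟩ := hTN y.2
    exact ⟨n, hn, by rw [hne]; exact hT y hy⟩
  -- every Sylow subgroup is contained in `C`
  have hall : ∀ Q : Sylow p G, (Q : Subgroup G) ≤ C := by
    intro Q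
    obtain ⟨g, rfl⟩ := MulAction.exists_smul_eq G P Q
    rintro _ ⟨y, hy, rfl⟩
    exact hCn.conj_mem y (hP hy) g
  -- every element of `C` is centralised by a Sylow subgroup
  have hz : ∀ z ∈ C, ∃ Q : Sylow p G, ∀ u ∈ Q, u * z = z * u := by
    intro z hz
    have h1 : Van G (x * z) := by
      refine Van.of_surjective (QuotientGroup.mk' C) (QuotientGroup.mk'_surjective C) ?_
      have h2 : QuotientGroup.mk' C (x * z) = QuotientGroup.mk' C x := by
        rw [map_mul]
        have : QuotientGroup.mk' C z = 1 := (QuotientGroup.eq_one_iff z).2 hz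
        rw [this, mul_one]
      rw [h2]
      exact hx
    obtain ⟨Q, hQ⟩ := exists_sylow_le (hcon _ h1)
    refine ⟨Q, fun u hu => ?_⟩
    have h2 := mem_centralizer_singleton_iff.1 (hQ hu)
    have h3 : x * u = u * x := Subgroup.mem_centralizer_iff.1 (hall Q hu) x hxN
    have h4 : x * (u * z) = x * (z * u) := by
      rw [← mul_assoc, h3, mul_assoc, h2, mul_assoc]
    exact mul_left_cancel h4
  -- `P` is central in `C`
  let P' : Sylow p C := P.subtype hP
  have hcen : ∀ u ∈ P, ∀ z ∈ C, u * z = z * u := by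
    have h1 : centralizer (P' : Set C) = ⊤ := by
      by_contra hne
      obtain ⟨z, hz'⟩ := Cfsg.Agent.H395.Jordan.exists_not_conj_mem hne
      obtain ⟨Q, hQ⟩ := hz z z.2
      obtain ⟨g, hg⟩ := MulAction.exists_smul_eq C P' (Q.subtype (hall Q))
      apply hz' g
      rw [Subgroup.mem_centralizer_iff]
      intro u hu
      have h2 : g * u * g⁻¹ ∈ Q.subtype (hall Q) := by
        rw [← hg]
        exact ⟨u, hu, rfl⟩
      have h3 : (g * u * g⁻¹) * z = z * (g * u * g⁻¹) := Subtype.ext (hQ _ h2)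
      calc u * (g⁻¹ * z * g) = g⁻¹ * ((g * u * g⁻¹) * z) * g := by group
        _ = g⁻¹ * (z * (g * u * g⁻¹)) * g := by rw [h3]
        _ = _ := by group
    intro u hu z hz'
    have h2 : (⟨z, hz'⟩ : C) ∈ centralizer (P' : Set C) := by rw [h1]; trivial
    have h3 := Subgroup.mem_centralizer_iff.1 h2 ⟨u, hP hu⟩ hu
    exact congrArg Subtype.val h3
  have hPn : (P' : Subgroup C).Normal := by
    constructor
    intro u hu g
    have h1 := hcen u hu g g.2
    have h2 : g * u * g⁻¹ = u := by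
      apply Subtype.ext
      show (g : G) * u * (g : G)⁻¹ = u
      rw [← h1, mul_inv_cancel_right]
    rw [h2]
    exact hu
  intro u hu g
  have h1 : g * u * g⁻¹ ∈ C := hCn.conj_mem u (hP hu) g
  obtain ⟨k, hk⟩ := P.2 ⟨u, hu⟩
  have hk' : u ^ p ^ k = 1 := congrArg Subtype.val hk
  have h2 : IsPGroup p (zpowers (⟨g * u * g⁻¹, h1⟩ : C)) := by
    rw [IsPGroup.iff_orderOf]
    rintro ⟨y, l, rfl⟩
    have h3 : ((⟨g * u * g⁻¹, h1⟩ : C) ^ l) ^ p ^ k = 1 := by
      have h4 : (⟨g * u * g⁻¹, h1⟩ : C) ^ p ^ k = 1 := by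
        apply Subtype.ext
        show (g * u * g⁻¹) ^ p ^ k = 1
        rw [conj_pow, hk', mul_one, mul_inv_cancel]
      rw [← zpow_natCast, ← zpow_mul, mul_comm, zpow_mul, zpow_natCast, h4, one_zpow]
    obtain ⟨j, -, hj⟩ := (Nat.dvd_prime_pow hp.1).1 (orderOf_dvd_of_pow_eq_one h3)
    exact ⟨j, by rw [← hj]; exact Subgroup.orderOf_mk _ _⟩
  obtain ⟨Q, hQ⟩ := h2.exists_le_sylow
  have h3 : Q = P' := by
    have := Sylow.unique_of_normal P' hPn
    exact Subsingleton.elim _ _
  rw [h3] at hQ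
  exact hQ (mem_zpowers _)

end cent

/-- **S4952 from the rows.** -/
theorem main (hrow : ∀ (S : Type u) [Group S] [Finite S] [IsSimpleGroup S], (∃ a b : S, a * b ≠ b * a) → VRow S)
    (hvz : ∀ (S : Type u) [Group S] [Finite S] [IsSimpleGroup S], (∃ a b : S, a * b ≠ b * a) → ∃ x : S, VZ S x)
    {G : Type u} [Group G] [Finite G] (N : Subgroup G) [N.Normal]
    (hNmin : ∀ K : Subgroup G, K.Normal → K ≤ N → K = ⊥ ∨ K = N)
    (hNna : ¬ IsMulCommutative N) (p : ℕ) (hp : p.Prime)
    (hpV : ∃ g : G, p ∣ (Subgroup.centralizer ({g} : Set G)).index) :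
    ∃ g : G, Van G g ∧ p ∣ (Subgroup.centralizer ({g} : Set G)).index := by
  classical
  by_contra hcon
  push Not at hcon
  have : Fact p.Prime := ⟨hp⟩
  have hna : ¬ ∀ x ∈ N, ∀ y ∈ N, Commute x y := by
    intro h
    apply hNna
    exact ⟨⟨fun a b => Subtype.ext (h a a.2 b b.2)⟩⟩
  obtain ⟨⟨P, K, hK, hKP⟩, hab⟩ := Cfsg.Agent.H404.VanishBlock.main p hcon
  obtain ⟨m, T, e, hm, hsimple, hTna, hTinj, hTN, hTn, hconj, htrans, he, hcoord⟩ :=
    Cfsg.Agent.PermutationGroups.OnanScott.exists_coordinates N hNmin hna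
  have C : Crd N T e := ⟨hsimple, hTna, hTinj, hTN, hconj, htrans, he, hcoord⟩
  have hKc : ¬ p ∣ Nat.card K := by
    rw [← hKP.index_eq_card]
    exact P.not_dvd_index
  have hKi : K.index = Nat.card P := hKP.symm.index_eq_card
  obtain ⟨b, hb⟩ := IsPGroup.iff_card.1 P.2
  have hpN : ¬ p ∣ Nat.card N := by
    rcases hNmin (N ⊓ K) inferInstance inf_le_left with h | h
    · exfalso
      have h1 : ∀ x ∈ N, x ^ p ^ b = 1 := by
        intro x hx
        have h2 : x ^ p ^ b ∈ K := by
          rw [← QuotientGroup.eq_one_iff (N := K)]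
          have h3 : ((x ^ p ^ b : G) : G ⧸ K) = (x : G ⧸ K) ^ p ^ b := rfl
          rw [h3, ← hb, ← hKi]
          exact pow_card_eq_one'
        have h3 : x ^ p ^ b ∈ N ⊓ K := ⟨pow_mem hx _, h2⟩
        rw [h] at h3
        exact Subgroup.mem_bot.1 h3
      have h2 : IsPGroup p (T ⟨0, hm⟩) := fun x =>
        ⟨b, Subtype.ext (h1 x (hTN _ x.2))⟩
      have h3 : Group.IsNilpotent (T ⟨0, hm⟩) := h2.isNilpotent
      have h4 : Group.IsSolvable (T ⟨0, hm⟩) := inferInstance
      obtain ⟨x, y, hxy⟩ := hTna ⟨0, hm⟩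
      have := hsimple ⟨0, hm⟩
      exact hxy (IsSimpleGroup.comm_iff_isSolvable.2 h4 x y)
    · have h1 : N ≤ K := by rw [← h]; exact inf_le_right
      exact fun h2 => hKc (h2.trans (Subgroup.card_dvd_of_le h1))
  have hrowT : ∀ i, VRow (T i) := fun i => by
    have := hsimple i
    exact hrow _ (hTna i)
  have hvzT : ∀ i, ∃ s : T i, VZ (T i) s := fun i => by
    have := hsimple i
    exact hvz _ (hTna i)
  -- `p`-elements centralise `N`
  have hpel : ∀ u ∈ P, u ^ p ^ b = 1 := by
    intro u hu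
    have h1 : (⟨u, hu⟩ : (P : Subgroup G)) ^ Nat.card P = 1 := pow_card_eq_one'
    rw [hb] at h1
    exact congrArg Subtype.val h1
  have hPC : (P : Subgroup G) ≤ centralizer (N : Set G) := by
    intro u hu
    have h1 : ∀ i, u ∈ centralizer (T i : Set G) := by
      intro i
      by_contra h1
      have h2 : (T i).map (MulAut.conj u).toMonoidHom = T i := by
        by_contra h2
        obtain ⟨x, hx, hd⟩ := C.exists_of_permutes hvzT (hpel u hu) h2
        exact hcon x hx hd
      obtain ⟨x, hx, hd⟩ := C.exists_of_normalizes hpN hrowT (i := i) (hpel u hu) (by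
        rw [Subgroup.mem_normalizer_iff]
        intro y
        conv_rhs => rw [← h2]
        constructor
        · intro hy
          exact ⟨y, hy, rfl⟩
        · rintro ⟨z, hz, e1⟩
          have : z = y := (MulAut.conj u).injective e1
          exact this ▸ hz) h1
      exact hcon x hx hd
    rw [Subgroup.mem_centralizer_iff]
    intro x hx
    -- `u` fixes all coordinates of `x`
    have h2 : MulAut.conjNormal u (⟨x, hx⟩ : N) = ⟨x, hx⟩ := by
      apply e.injective
      funext i
      have h3 : (T i).map (MulAut.conj u).toMonoidHom = T i := by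
        ext y
        constructor
        · rintro ⟨z, hz, rfl⟩
          show u * z * u⁻¹ ∈ T i
          rw [← Subgroup.mem_centralizer_iff.1 (h1 i) z hz, mul_inv_cancel_right]
          exact hz
        · intro hy
          refine ⟨y, hy, ?_⟩
          show u * y * u⁻¹ = y
          rw [← Subgroup.mem_centralizer_iff.1 (h1 i) y hy, mul_inv_cancel_right]
      apply Subtype.ext
      rw [coord_conj e hTN he hcoord u i i h3.symm, ← Subgroup.mem_centralizer_iff.1 (h1 i) _ (e ⟨x, hx⟩ i).2,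
        mul_inv_cancel_right]
    have h3 : u * x * u⁻¹ = x := congrArg Subtype.val h2
    exact (mul_inv_eq_iff_eq_mul.1 h3).symm
  have hPn := commute_of_sylow_le_centralizer N hNmin hna hvz hcon P hPC
  -- `P` is central
  have hcen : ∀ u ∈ P, ∀ g : G, u * g = g * u := by
    intro u hu g
    obtain ⟨⟨k, v⟩, hkv⟩ := hKP.2 g
    have hkv' : (k : G) * v = g := hkv
    have h1 : (k : G) * u * (k : G)⁻¹ * u⁻¹ = 1 := by
      have h2 : (k : G) * u * (k : G)⁻¹ * u⁻¹ ∈ (P : Subgroup G) := mul_mem (hPn u hu k) (inv_mem hu)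
      have h3 : (k : G) * u * (k : G)⁻¹ * u⁻¹ ∈ K := by
        have h4 : (k : G) * u * (k : G)⁻¹ * u⁻¹ = k * (u * (k : G)⁻¹ * u⁻¹) := by group
        rw [h4]
        exact mul_mem k.2 (hK.conj_mem _ (inv_mem k.2) u)
      have h4 := hKP.disjoint
      exact Subgroup.disjoint_def.1 h4 h3 h2
    have h2 : (k : G) * u = u * k := mul_inv_eq_iff_eq_mul.1 (mul_inv_eq_one.1 h1)
    have h3 : (v : G) * u = u * v := by
      have h4 := (hab P).is_comm.comm v ⟨u, hu⟩
      exact congrArg Subtype.val h4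
    rw [← hkv', mul_assoc, h3, ← mul_assoc, ← h2, mul_assoc]
  obtain ⟨g, hg⟩ := hpV
  exact not_dvd_index_of_le P (fun u hu => mem_centralizer_singleton_iff.2 (hcen u hu g)) hg

end Cfsg.Agent.H716.VanRed
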