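import Cfsg.Agent.H716.RankOneChar
import Cfsg.Agent.H716.CopRow
import Cfsg.Agent.H967.CopSz
import Cfsg.Agent.Lib.Zsigmondy
import Cfsg.Agent.LieRecognition.ReeFinal

/-!
# Coprime automorphisms of the Suzuki and Ree groups move a class of `VZ` elements (helper716)

* `VM p α` : there is a `VZ` element `x` with `Mov p α x`;
* `sz`, `ree` : the rows of `Sz(q)` and `²G₂(q)`.
-/

set_option autoImplicit false

namespace Cfsg.Agent.H716.RankOneRow

open Cfsg Subgroup Cfsg.Agent.H716.RankOneChar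
open Cfsg.Agent.H713 (VZ VZ.mulEquiv)
open Cfsg.Agent.H716.CopRow (Mov)
open Cfsg.Agent.H967.CopMat Cfsg.Agent.H967.CopRow Cfsg.Agent.H967.CopSz

/-! ### Orders of general linear groups -/

theorem card_GL {ι : Type*} [Fintype ι] [DecidableEq ι] {E : Type*} [Field E] [Finite E] :
    Nat.card (GL ι E) = ∏ i : Fin (Fintype.card ι), (Nat.card E ^ Fintype.card ι - Nat.card E ^ (i : ℕ)) := by
  have := Fintype.ofFinite E
  have h1 : GL ι E ≃* GL (Fin (Fintype.card ι)) E :=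
    Units.mapEquiv (Matrix.reindexRingEquiv E (Fintype.equivFin ι)).toMulEquiv
  rw [Nat.card_congr h1.toEquiv, Matrix.card_GL_field, Nat.card_eq_fintype_card]

theorem not_dvd_card_GL {ι : Type*} [Fintype ι] [DecidableEq ι] {E : Type*} [Field E] [Finite E] {l : ℕ}
    (hl : l.Prime) (hE : ¬ l ∣ Nat.card E)
    (h : ∀ j, 0 < j → j ≤ Fintype.card ι → ¬ l ∣ Nat.card E ^ j - 1) : ¬ l ∣ Nat.card (GL ι E) := by
  rw [card_GL]
  intro hd
  obtain ⟨i, -, hi⟩ := (Prime.dvd_finsetProd_iff hl.prime _).1 hd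
  have h1 : Nat.card E ^ Fintype.card ι - Nat.card E ^ (i : ℕ) =
      Nat.card E ^ (i : ℕ) * (Nat.card E ^ (Fintype.card ι - i) - 1) := by
    rw [Nat.mul_sub, mul_one, ← pow_add, Nat.add_sub_cancel' i.2.le]
  rw [h1] at hi
  rcases hl.dvd_mul.1 hi with h2 | h2
  · exact hE (hl.dvd_of_dvd_pow h2)
  · exact h _ (by have := i.2; omega) (Nat.sub_le _ _) h2

/-- The fixed points of a coprime automorphism of a matrix group. -/
theorem card_Fx_dvd {ι : Type*} [Fintype ι] [DecidableEq ι] {F : Type*} [Field F] [Finite F] {G : Subgroup (GL ι F)}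
    (R : Row G) {K : Type*} [Group K] (e : K ≃* ↥G) (β : MulAut K) (hβ : (orderOf β).Coprime (Nat.card K)) :
    ∃ E : Subfield F, Nat.card F = Nat.card ↥E ^ orderOf β ∧
      Nat.card (Cfsg.Agent.H716.CopRow.Fx β) ∣ Nat.card (GL ι ↥E) := by
  obtain ⟨e', σ, h1, h2⟩ := R.exists_equiv_one e β hβ
  have h3 : Nat.card F = Nat.card ↥(Fx σ) ^ orderOf β := by rw [← h2]; exact card_Fx σ
  refine ⟨Fx σ, h3, ?_⟩
  let f : K →* GL ι F := G.subtype.comp (e' : K →* ↥G)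
  have hf : Function.Injective f := G.subtype_injective.comp e'.injective
  rw [← Subgroup.card_map_of_injective (K := Cfsg.Agent.H716.CopRow.Fx β) hf]
  have h4 : (Cfsg.Agent.H716.CopRow.Fx β).map f ≤
      (Matrix.GeneralLinearGroup.map (n := ι) (Fx σ).subtype).range := by
    rintro _ ⟨y, hy, rfl⟩
    have hy' : β y = y := hy
    have h5 : fieldAut R.stab σ (e' y) = e' y := by rw [← h1, hy']
    obtain ⟨g₀, hg⟩ := exists_map σ (e' y : GL ι F) ((fixed_iff R.stab σ (e' y)).1 h5)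
    exact ⟨g₀, hg⟩
  refine (Subgroup.card_dvd_of_le h4).trans ?_
  rw [← Nat.card_congr (MonoidHom.ofInjective
    (Cfsg.Agent.H967.CopMat.map_injective (ι := ι) (Fx σ).subtype)).toEquiv]

/-! ### Zsigmondy primes -/

theorem exists_zsig {r a k : ℕ} (hr : r.Prime) (ha : 1 ≤ a) (hk : 1 ≤ k) (h1 : 2 ≤ k * a)
    (h6 : ¬ (r = 2 ∧ k * a = 3)) : ∃ l : ℕ, l.Prime ∧ (∀ m, l ∣ r ^ m - 1 ↔ 2 * (k * a) ∣ m) ∧ ¬ l ∣ r ∧ l ≠ 2 ∧
      ¬ l ∣ r ^ a - 1 ∧ l ∣ (r ^ a) ^ k + 1 := by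
  obtain ⟨l, hl, hm, hd, hlr⟩ := Cfsg.Agent.Lib.Zsigmondy.exists_primitive (a := r) (n := 2 * (k * a)) hr.two_le
    (by omega) (by omega) (by rintro ⟨h, h'⟩; exact h6 ⟨h, by omega⟩)
  have hl2 : l ≠ 2 := by
    rintro rfl
    have := Nat.le_of_dvd (by norm_num) hd
    omega
  have hn : ∀ j, 0 < j → j < 2 * (k * a) → ¬ l ∣ r ^ j - 1 := fun j hj1 hj2 h =>
    absurd (Nat.le_of_dvd hj1 ((hm j).1 h)) (by omega)
  refine ⟨l, hl, hm, hlr, hl2, hn a (by omega) (by nlinarith), ?_⟩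
  have h3 : l ∣ r ^ (2 * (k * a)) - 1 := (hm _).2 dvd_rfl
  have h4 : r ^ (2 * (k * a)) - 1 = ((r ^ a) ^ k - 1) * ((r ^ a) ^ k + 1) := by
    have h5 : r ^ (2 * (k * a)) = (r ^ a) ^ k * (r ^ a) ^ k := by
      rw [← pow_mul, ← pow_add]; congr 1; ring
    rw [h5]
    have h6 : 1 ≤ (r ^ a) ^ k := Nat.one_le_pow _ _ (pow_pos hr.pos a)
    obtain ⟨c, hc⟩ : ∃ c, (r ^ a) ^ k = c + 1 := ⟨(r ^ a) ^ k - 1, by omega⟩
    rw [hc, Nat.add_sub_cancel]
    have : (c + 1) * (c + 1) = c * (c + 2) + 1 := by ring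
    rw [this, Nat.add_sub_cancel]
  rw [h4] at h3
  rcases hl.dvd_mul.1 h3 with h5 | h5
  · exfalso
    rw [← pow_mul] at h5
    exact hn (a * k) (by positivity) (by nlinarith) h5
  · exact h5

/-- the primes of `exists_zsig` do not divide the order of small general linear groups -/
theorem not_dvd_of_zsig {ι : Type*} [Fintype ι] [DecidableEq ι] {E : Type*} [Field E] [Finite E] {l r a n p : ℕ}
    (hl : l.Prime) (hr : r.Prime) (hm : ∀ m, l ∣ r ^ m - 1 ↔ n ∣ m) (hlr : ¬ l ∣ r) (hE : r ^ a = Nat.card E ^ p)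
    (hp : p.Prime) (hn : Fintype.card ι * a < n * p) : ¬ l ∣ Nat.card (GL ι E) := by
  obtain ⟨b, hb⟩ : ∃ b, Nat.card E = r ^ b := by
    have h1 : Nat.card E ∣ r ^ a := by rw [hE]; exact dvd_pow_self _ hp.ne_zero
    obtain ⟨b, -, hb⟩ := (Nat.dvd_prime_pow hr).1 h1
    exact ⟨b, hb⟩
  have hab : a = b * p := by
    rw [hb, ← pow_mul] at hE
    exact Nat.pow_right_injective hr.two_le hE
  have hb0 : 0 < b := by
    rcases Nat.eq_zero_or_pos b with rfl | h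
    · rw [pow_zero] at hb
      have := Finite.one_lt_card (α := E)
      omega
    · exact h
  refine not_dvd_card_GL hl ?_ ?_
  · rw [hb]
    exact fun h => hlr (hl.dvd_of_dvd_pow h)
  · intro j hj0 hj h
    rw [hb, ← pow_mul, hm] at h
    have h1 := Nat.le_of_dvd (by positivity) h
    have h2 : n * p ≤ Fintype.card ι * a := by
      rw [hab]
      calc n * p ≤ (b * j) * p := Nat.mul_le_mul_right _ h1
        _ = j * (b * p) := by ring
        _ ≤ _ := Nat.mul_le_mul_right _ hj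
    omega

/-- **The general row.** -/
theorem row_of_matrix {ι : Type*} [Fintype ι] [DecidableEq ι] {F : Type*} [Field F] [Finite F] {G : Subgroup (GL ι F)}
    (R : Row G) {K : Type*} [Group K] [Finite K] (e : K ≃* ↥G) {r a n l : ℕ} (hr : r.Prime)
    (hF : Nat.card F = r ^ a) (hl : l.Prime) (hm : ∀ m, l ∣ r ^ m - 1 ↔ n ∣ m) (hlr : ¬ l ∣ r)
    (hn : ∀ p : ℕ, p.Prime → ¬ p ∣ Nat.card K → Fintype.card ι * a < n * p)
    (hlG : l ∣ Nat.card K) (hvz : ∀ x : K, l ∣ orderOf x → VZ K x) :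
    ∀ p : ℕ, p.Prime → ¬ p ∣ Nat.card K → ∀ α : MulAut K, orderOf α = p → ∃ x : K, VZ K x ∧ Mov p α x := by
  intro p hp hpK α hα
  have : Fact p.Prime := ⟨hp⟩
  have : Fact l.Prime := ⟨hl⟩
  obtain ⟨x, hx⟩ := exists_prime_orderOf_dvd_card' l hlG
  refine ⟨x, hvz x (by rw [hx]), Mov.of_dvd hα (l := l) (by rw [hx]) ?_⟩
  intro β hβ hd
  obtain ⟨E, hE, h1⟩ := card_Fx_dvd R e β (by rw [hβ]; exact (Nat.Prime.coprime_iff_not_dvd hp).2 hpK)
  rw [hβ, hF] at hE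
  exact not_dvd_of_zsig (ι := ι) hl hr hm hlr hE hp (hn p hp hpK) (hd.trans h1)

/-- **`Sz(q)`.** -/
theorem sz {K : Type*} [Group K] [Finite K] (h : Cfsg.Lie.IsoSuzuki K) :
    ∀ p : ℕ, p.Prime → ¬ p ∣ Nat.card K → ∀ α : MulAut K, orderOf α = p → ∃ x : K, VZ K x ∧ Mov p α x := by
  obtain ⟨F, i1, i2, m, hm, hF, ⟨e⟩⟩ := h
  have hF' : Nat.card F = 2 ^ (2 * m + 1) := by rw [Nat.card_eq_fintype_card, hF]
  obtain ⟨l, hl, hlm, hlr, hl2, hlq, hld⟩ := exists_zsig (r := 2) (a := 2 * m + 1) (k := 2) Nat.prime_two (by omega)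
    (by omega) (by omega) (by omega)
  have : Fact l.Prime := ⟨hl⟩
  have hc := (Cfsg.Agent.S1163.result hm hF).1
  refine row_of_matrix (row_sz hm hF) e Nat.prime_two hF' hl hlm hlr ?_ ?_ ?_
  · intro p hp _
    have := hp.two_le
    rw [Fintype.card_fin]
    nlinarith
  · rw [Nat.card_congr e.toEquiv, hc]
    exact Dvd.dvd.mul_left hld _
  · intro x hx
    have h1 : VZ ↥(Cfsg.Lie.Sz F (2 ^ (m + 1))) (e x) :=
      vz_sz hm hF hl2 (by rw [hF]; exact hlq) (by rwa [MulEquiv.orderOf_eq])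
    have h2 := h1.mulEquiv e.symm
    rwa [MulEquiv.symm_apply_apply] at h2

/-- **`²G₂(q)`.** -/
theorem ree {K : Type*} [Group K] [Finite K] (h : Cfsg.Lie.IsoRee K) :
    ∀ p : ℕ, p.Prime → ¬ p ∣ Nat.card K → ∀ α : MulAut K, orderOf α = p → ∃ x : K, VZ K x ∧ Mov p α x := by
  obtain ⟨F, i1, i2, m, hm, hF, ⟨e⟩⟩ := h
  have hF' : Nat.card F = 3 ^ (2 * m + 1) := by rw [Nat.card_eq_fintype_card, hF]
  obtain ⟨l, hl, hlm, hlr, hl2, hlq, hld⟩ := exists_zsig (r := 3) (a := 2 * m + 1) (k := 3) Nat.prime_three (by omega)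
    (by omega) (by omega) (by omega)
  have : Fact l.Prime := ⟨hl⟩
  have hc := Cfsg.Agent.LieRecognition.ReeFinal.card hF
  have h2K : 2 ∣ Nat.card K := by
    rw [Nat.card_congr e.toEquiv, hc]
    refine Dvd.dvd.mul_left ?_ _
    have h1 : Odd ((3 ^ (2 * m + 1)) ^ 3) := Odd.pow (Odd.pow (by decide))
    obtain ⟨c, hc⟩ := h1
    rw [hc]
    exact ⟨c + 1, by ring⟩
  refine row_of_matrix (row_ree hm hF) e Nat.prime_three hF' hl hlm hlr ?_ ?_ ?_
  · intro p hp hpK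
    have hp2 := hp.two_le
    have hp3 : 3 ≤ p := by
      rcases hp2.eq_or_lt with h | h
      · exact absurd (h ▸ h2K) hpK
      · exact h
    have h14 : Fintype.card Cfsg.Lie.chevG2.Idx = 14 := by
      decide +kernel
    rw [h14]
    nlinarith
  · rw [Nat.card_congr e.toEquiv, hc]
    exact Dvd.dvd.mul_left hld _
  · intro x hx
    have hl3 : l ≠ 3 := by
      rintro rfl
      exact hlr dvd_rfl
    have h1 : VZ ↥(Cfsg.Lie.twistedG2 F (3 ^ m)) (e x) :=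
      vz_ree hm hF hl3 (by rw [hF]; exact hlq) (by rwa [MulEquiv.orderOf_eq])
    have h2 := h1.mulEquiv e.symm
    rwa [MulEquiv.symm_apply_apply] at h2

end Cfsg.Agent.H716.RankOneRow
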