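import Cfsg.Agent.FixBN.OfBN
import Cfsg.Agent.Tits.Chart
import Cfsg.Agent.Tits.Opp

/-!
# Regular unipotent elements of a group with a split (B,N)-pair (building version)

* `eq_of_fix` : an element of `U c` which moves a chamber of every panel of `c` fixes no other chamber;
* `exists_root` : elements of `U c` acting as prescribed on one panel of `c` and trivially on the others;
* `exists_prescribed` : `U c` is transitive on the product of the panels of `c` (without `c`);
* `exists_regular` : regular elements exist when the building is thick.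
-/

set_option autoImplicit false
set_option linter.unusedSectionVars false

namespace Cfsg.Agent.H716.RegUni

open Cfsg.Agent.Tits.Core Cfsg.Agent.Tits.Core.Bldg Cfsg.Agent.Tits Cfsg.Agent.Tits.Opp
open Cfsg.Agent.FixBN (Sys HasSplit Split)

variable {I : Type*} {M : CoxeterMatrix I} {W : Type*} [Group W] {cs : CoxeterSystem M W} {C : Type*}
variable {Δ : Bldg cs C} {G : Type*} [Group G] [MulAction G C] {r : ℕ}

local prefix:100 "s" => cs.simple
local prefix:100 "ℓ" => cs.length

/-- the first chamber on a geodesic -/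
theorem exists_first {c d : C} {i : I} (h : ℓ (s i * Δ.δ c d) < ℓ (Δ.δ c d)) :
    ∃ e, Δ.δ c e = s i ∧ Δ.δ e d = s i * Δ.δ c d ∧
      ∀ e', Δ.δ c e' = s i → Δ.δ e' d = s i * Δ.δ c d → e' = e := by
  obtain ⟨e, he, he'⟩ := Δ.exists_step d c i
  have h1 : Δ.δ e d = s i * Δ.δ c d := by
    rw [Δ.symm d e, he', Δ.symm c d, mul_inv_rev, inv_inv, cs.inv_simple]
  refine ⟨e, he, h1, fun e' h2 h3 => ?_⟩
  refine eq_of_length Δ (x := c) (z := d) (w := s i) (v := s i * Δ.δ c d) ?_ h2 he h3 h1
  rw [cs.simple_mul_simple_cancel_left, cs.length_simple]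
  rcases cs.length_simple_mul (Δ.δ c d) i with h4 | h4 <;> omega

variable (S : Sys Δ G r)

include S in
theorem smul_first {c d e : C} {i : I} (h : ℓ (s i * Δ.δ c d) < ℓ (Δ.δ c d)) (he : Δ.δ c e = s i)
    (hed : Δ.δ e d = s i * Δ.δ c d) {u : G} (hc : u • c = c) (hd : u • d = d) : u • e = e := by
  obtain ⟨e0, h1, h2, h3⟩ := exists_first h
  rw [h3 e he hed]
  refine h3 _ ?_ ?_
  · conv_lhs => rw [← hc]
    rw [S.iso, h1]
  · conv_lhs => rw [← hd]
    rw [S.iso, h2]

/-- An element of `U c` which moves some chamber of each panel of `c` fixes only `c`. -/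
theorem eq_of_fix {c d : C} {u : G} (hu : u ∈ S.U c) (hreg : ∀ i, ∃ y, Δ.δ c y = s i ∧ u • y ≠ y)
    (hd : u • d = d) : d = c := by
  by_contra hne
  have h1 : Δ.δ c d ≠ 1 := fun h => hne ((Δ.eq_one c d).1 h).symm
  obtain ⟨i, hi⟩ := cs.exists_leftDescent_of_ne_one h1
  have hi' : ℓ (s i * Δ.δ c d) < ℓ (Δ.δ c d) := hi
  obtain ⟨e, he, hed, -⟩ := exists_first hi'
  have h2 := smul_first S hi' he hed (S.fix c u hu) hd
  obtain ⟨y, hy, hne'⟩ := hreg i
  exact hne' (S.pan c e i he u hu h2 y (Or.inr hy))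

theorem length_simple_mul_simple [F : OppRes.Cox cs] {i j : I} (h : j ≠ i) : ℓ (s j * s i) = 2 := by
  have h1 := cs.length_simple_mul (s i) j
  rw [cs.length_simple] at h1
  rcases h1 with h1 | h1
  · exact h1
  · exfalso
    have h2 : ℓ (s j * s i) = 0 := by omega
    have h3 := cs.length_eq_zero_iff.1 h2
    have h4 : s j = s i := by
      have := eq_inv_of_mul_eq_one_left h3
      rwa [cs.inv_simple] at this
    exact h (F.inj h4)

variable [F : OppRes.Cox cs]

/-- **Root elements.** -/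
theorem exists_root [Finite W] {c e e' : C} {i : I} (he : Δ.δ c e = s i) (he' : Δ.δ c e' = s i) :
    ∃ x ∈ S.U c, x • e = e' ∧ ∀ j, j ≠ i → ∀ z ∈ Δ.Pan j c, x • z = z := by
  obtain ⟨k, -, hk⟩ := F.exists_opJ (J := Set.univ) (Set.mem_univ i)
  change w0 cs * s k = s i * w0 cs at hk
  have hlw : ℓ (s i * w0 cs) + 1 = ℓ (w0 cs) := by
    have := F.len_mul_w0 (s i)
    rwa [cs.length_simple] at this
  -- the chamber `f`
  obtain ⟨f, hf⟩ := exists_delta Δ c (s i * w0 cs)
  have hfc : Δ.δ f c = w0 cs * s i := by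
    rw [Δ.symm c f, hf, mul_inv_rev, cs.inv_simple, F.w0_inv]
  have hlw' : ℓ (w0 cs * s i) + 1 = ℓ (w0 cs) := by
    have := F.len_w0_mul (s i)
    rwa [cs.length_simple] at this
  have hopp : ∀ a, Δ.δ c a = s i → Δ.δ a f = w0 cs := by
    intro a ha
    have h1 := Δ.step_lt f c a i ha (by
      rw [hfc, cs.simple_mul_simple_cancel_right]
      omega)
    rw [Δ.symm f a, h1, hfc, cs.simple_mul_simple_cancel_right, F.w0_inv]
  -- the chamber `d` attached to `a`
  have hd : ∀ a, Δ.δ c a = s i → ∃ d, Δ.δ f d = s k ∧ Δ.δ a d = s i * w0 cs ∧ Δ.δ c d = w0 cs := by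
    intro a ha
    obtain ⟨d, h1, h2⟩ := Δ.exists_step a f k
    rw [hopp a ha, hk] at h2
    refine ⟨d, h1, h2, ?_⟩
    have h3 := add_of_length Δ (x := c) (y := a) (z := d) (by
      rw [ha, h2, cs.simple_mul_simple_cancel_left, cs.length_simple]
      omega)
    rw [h3, ha, h2, cs.simple_mul_simple_cancel_left]
  obtain ⟨d, hfd, hed, hcd⟩ := hd e he
  obtain ⟨d', hfd', hed', hcd'⟩ := hd e' he'
  obtain ⟨x, hx, hxd⟩ := S.trans c d d' hcd hcd'
  have hxc := S.fix c x hx
  have hxe : x • e = e' := by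
    refine eq_of_length Δ (x := c) (z := d') (w := s i) (v := s i * w0 cs) ?_ ?_ he' ?_ hed'
    · rw [cs.simple_mul_simple_cancel_left, cs.length_simple]
      omega
    · conv_lhs => rw [← hxc]
      rw [S.iso, he]
    · rw [← hxd, S.iso, hed]
  have hxf : x • f = f := by
    refine eq_of_length Δ (x := c) (z := d') (w := s i * w0 cs) (v := s k) ?_ ?_ hf ?_ hfd'
    · rw [← hk, cs.simple_mul_simple_cancel_right, cs.length_simple, hk]
      omega
    · conv_lhs => rw [← hxc]
      rw [S.iso, hf]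
    · rw [← hxd, S.iso, hfd]
  refine ⟨x, hx, hxe, fun j hj z hz => ?_⟩
  have hl2 : ℓ (s j * Δ.δ c f) < ℓ (Δ.δ c f) := by
    rw [hf, ← mul_assoc]
    have h1 := F.len_mul_w0 (s j * s i)
    rw [length_simple_mul_simple hj] at h1
    omega
  obtain ⟨g, hg, hgf, -⟩ := exists_first hl2
  exact S.pan c g j hg x hx (smul_first S hl2 hg hgf hxc hxf) z hz

/-- **`U c` is transitive on the product of the panels of `c`.** -/
theorem exists_prescribed [Finite W] [Finite I] (c : C) (e e' : I → C) (he : ∀ i, Δ.δ c (e i) = s i)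
    (he' : ∀ i, Δ.δ c (e' i) = s i) : ∃ u ∈ S.U c, ∀ i, u • e i = e' i := by
  classical
  have := Fintype.ofFinite I
  have key : ∀ T : Finset I, ∃ u ∈ S.U c, (∀ i ∈ T, u • e i = e' i) ∧ ∀ j ∉ T, ∀ z ∈ Δ.Pan j c, u • z = z := by
    intro T
    induction T using Finset.induction_on with
    | empty => exact ⟨1, one_mem _, by simp, fun j _ z _ => one_smul G z⟩
    | insert a T ha ih =>
      obtain ⟨u, hu, h1, h2⟩ := ih
      obtain ⟨x, hx, hxe, hxz⟩ := exists_root S (he a) (he' a)
      refine ⟨x * u, mul_mem hx hu, fun i hi => ?_, fun j hj z hz => ?_⟩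
      · rcases Finset.mem_insert.1 hi with rfl | hi
        · rw [mul_smul, h2 i ha (e i) (Or.inr (he i)), hxe]
        · rw [mul_smul, h1 i hi, hxz i (fun h => ha (h ▸ hi)) (e' i) (Or.inr (he' i))]
      · rw [Finset.mem_insert, not_or] at hj
        rw [mul_smul, h2 j hj.2 z hz, hxz j hj.1 z hz]
  obtain ⟨u, hu, h1, -⟩ := key Finset.univ
  exact ⟨u, hu, fun i => h1 i (Finset.mem_univ i)⟩

end Cfsg.Agent.H716.RegUni
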