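import Cfsg.Agent.H716.RankOnePSL
import Cfsg.Agent.H716.VzOut
import Cfsg.Agent.H164.TRowPSL
import Cfsg.Agent.H164.TRowPSp
import Cfsg.Agent.H164.TRowExc
import Cfsg.Agent.H471.TRowPSU
import Cfsg.Agent.H989.TRowOrth
import Cfsg.Agent.H680.TRowTw
import Cfsg.Agent.H60.TRowTwF4
import Cfsg.Agent.H690.LieGood
import Cfsg.Agent.H690.Spor.Tits
import Cfsg.Agent.H714.AltFull
import Cfsg.Agent.H254.CopMain
import Cfsg.Agent.H498.SporOut
import Cfsg.Agent.PreUniq.Cases

/-!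
# The rows of S4952 for all known simple groups (helper716)

* `vrow_lie` : simple groups of Lie type;
* **`vrow_known`**, **`vz_known`** : all known nonabelian simple groups.
-/

set_option autoImplicit false

namespace Cfsg.Agent.H716.VanRows

open Cfsg Subgroup
open Cfsg.Agent.H713 (VZ VZ.mulEquiv)
open Cfsg.Agent.H716.CopRow
open Cfsg.Agent.H716.VanRed (VRow)
open Cfsg.Agent.H254 (CopTriv)
open Cfsg.Agent.FixBN (HasSplit)

universe u

theorem vrow_of_copTriv {K : Type*} [Group K] [Finite K] (h : CopTriv K) : VRow K := by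
  intro p hp hpK α hα
  exfalso
  have h1 := h (zpowers α) (by
    rw [Nat.card_zpowers, hα]
    exact (Nat.Prime.coprime_iff_not_dvd hp).2 hpK)
  rw [zpowers_eq_bot] at h1
  rw [h1, orderOf_one] at hα
  exact hp.one_lt.ne hα

theorem vrow_of_tRow {K : Type*} [Group K] [Finite K] {r : ℕ} [Fact r.Prime] (h : TRow r K) (hs : HasSplit r K) :
    VRow K := by
  intro p hp hpK α hα
  obtain ⟨x, hx, hm⟩ := h.eRow p hp hpK α hα
  exact ⟨x, Cfsg.Agent.H690.LieGood.vz_of_hasSplit hs hx, hm⟩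

theorem not_comm {K : Type*} [Group K] (hna : ∃ a b : K, a * b ≠ b * a) : ¬ IsMulCommutative K := by
  intro h
  obtain ⟨a, b, hab⟩ := hna
  exact hab (h.is_comm.comm a b)

/-- **Simple groups of Lie type.** -/
theorem vrow_lie {r : ℕ} (hr : r.Prime) {K : Type*} [Group K] [Finite K] [IsSimpleGroup K]
    (hna : ∃ a b : K, a * b ≠ b * a) (h : IsLieTypeChar r K) : VRow K := by
  have : Fact r.Prime := ⟨hr⟩
  have hs := Cfsg.Agent.H690.LieRow.hasSplit hr h
  rcases h with h | h | h | h | h | h | h | h | h | h | h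
  · obtain ⟨F, _, _, _, n, hn, h4, ⟨e⟩⟩ := h
    have hsF : IsSimpleGroup (Matrix.ProjectiveSpecialLinearGroup (Fin n) F) := e.symm.isSimpleGroup
    rcases Nat.lt_or_ge n 3 with h3 | h3
    · obtain rfl : n = 2 := by omega
      have hfin : Finite (Matrix.ProjectiveSpecialLinearGroup (Fin 2) F) := Finite.of_equiv K e.toEquiv
      refine Cfsg.Agent.H716.RankOnePSL.VRow.congr e.symm (Cfsg.Agent.H716.RankOnePSL.psl_two (h4 rfl) ?_)
      obtain ⟨a, b, hab⟩ := hna
      refine not_comm ⟨e a, e b, fun h => hab (e.injective ?_)⟩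
      rw [map_mul, map_mul, h]
    · exact vrow_of_tRow ((Cfsg.Agent.H164.TRowPSL.tRow_psl (r := r) h3).congr e.symm) hs
  · obtain ⟨F, _, _, _, m, hm, h3, ⟨e⟩⟩ := h
    have hsF : IsSimpleGroup (PSp m F) := e.symm.isSimpleGroup
    exact vrow_of_tRow ((Cfsg.Agent.H164.TRowPSp.tRow_psp (r := r) hm).congr e.symm) hs
  · obtain ⟨F, _, _, _, n, q, hF, hn, -, ⟨e⟩⟩ := h
    have hsF : IsSimpleGroup (PSU n F q) := e.symm.isSimpleGroup
    exact vrow_of_tRow ((Cfsg.Agent.H471.TRowPSU.tRow_psu (r := r) hF hn).congr e.symm) hs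
  · obtain ⟨F, _, _, _, m, hm, hodd, ⟨e⟩⟩ := h
    exact vrow_of_tRow ((Cfsg.Agent.H989.TRowOrth.tRow_po_odd (r := r) hm hodd).congr e.symm) hs
  · obtain ⟨F, _, _, _, m, hm, ⟨e⟩⟩ := h
    exact vrow_of_tRow ((Cfsg.Agent.H989.TRowOrth.tRow_po_plus (r := r) hm).congr e.symm) hs
  · obtain ⟨F, _, _, _, m, a, b, hm, hab, ⟨e⟩⟩ := h
    exact vrow_of_tRow ((Cfsg.Agent.H989.TRowOrth.tRow_po_minus (r := r) hm a b hab).congr e.symm) hs
  · exact vrow_of_tRow (Cfsg.Agent.H164.TRowExc.tRow_exc h) hs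
  · exact vrow_of_tRow (Cfsg.Agent.H680.TRowTw.tRow_tw h) hs
  · exact Cfsg.Agent.H716.RankOneRow.sz h.2
  · obtain ⟨rfl, h⟩ := h
    exact vrow_of_tRow (Cfsg.Agent.H60.TRowTwF4.tRow_tf4 h) hs
  · exact Cfsg.Agent.H716.RankOneRow.ree h.2

/-- **The row of a known nonabelian simple group.** -/
theorem vrow_known {K : Type u} [Group K] [Finite K] [IsSimpleGroup K] (hna : ∃ a b : K, a * b ≠ b * a)
    (h : IsKnownSimple' K) : VRow K := by
  rcases Cfsg.Agent.PreUniq.known_cases h with h | h | ⟨r, hr, h⟩ | h | h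
  · exfalso
    have h1 : Fact (Nat.card K).Prime := ⟨h⟩
    have h2 : IsCyclic K := isCyclic_of_prime_card (p := Nat.card K) rfl
    exact not_comm hna IsCyclic.isMulCommutative
  · obtain ⟨n, hn, ⟨e⟩⟩ := h
    by_cases h6 : n = 6
    · subst h6
      haveI : Fact (Nat.Prime 3) := ⟨Nat.prime_three⟩
      letI : Fintype (GaloisField 3 2) := Fintype.ofFinite _
      have hF : Fintype.card (GaloisField 3 2) = 9 := by
        rw [← Nat.card_eq_fintype_card, GaloisField.card 3 2 (by norm_num)]; norm_num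
      obtain ⟨e'⟩ := S0254.result (F := GaloisField 3 2) hF
      exact vrow_lie Nat.prime_three hna (Or.inl ⟨GaloisField 3 2, inferInstance, inferInstance, inferInstance, 2,
        le_rfl, fun _ => by rw [hF]; norm_num, ⟨e.trans e'.symm⟩⟩)
    · exact vrow_of_copTriv ((Cfsg.Agent.H254.Alt.copTriv hn h6).of_equiv e.symm)
  · exact vrow_lie hr hna h
  · exact vrow_of_copTriv (Cfsg.Agent.H254.CopSpor.tits_triv h)
  · exact vrow_of_copTriv (Cfsg.Agent.H254.CopSpor.sporadic_triv h)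

/-- **`VZ` elements of the known nonabelian simple groups.** -/
theorem vz_known {K : Type u} [Group K] [Finite K] [IsSimpleGroup K] (hna : ∃ a b : K, a * b ≠ b * a)
    (h : IsKnownSimple' K) : ∃ x : K, VZ K x := by
  rcases Cfsg.Agent.PreUniq.known_cases h with h | h | ⟨r, hr, h⟩ | h | h
  · exfalso
    have h1 : Fact (Nat.card K).Prime := ⟨h⟩
    have h2 : IsCyclic K := isCyclic_of_prime_card (p := Nat.card K) rfl
    exact not_comm hna IsCyclic.isMulCommutative
  · obtain ⟨n, hn, ⟨e⟩⟩ := h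
    obtain ⟨x, hx, -⟩ := Cfsg.Agent.H714.AltFull.exists_vz_prime hn 2 3
    exact ⟨e.symm x, hx.mulEquiv e.symm⟩
  · have : Fact r.Prime := ⟨hr⟩
    have hs := Cfsg.Agent.H690.LieRow.hasSplit hr h
    obtain ⟨x, hx⟩ := exists_prime_orderOf_dvd_card' r (Cfsg.Agent.H690.LieGood.dvd_card_of_hasSplit hs)
    exact ⟨x, Cfsg.Agent.H690.LieGood.vz_of_hasSplit hs (by rw [hx])⟩
  · obtain ⟨x, hx, -⟩ := Cfsg.Agent.H690.Spor.Tits.exists_vz h
    exact ⟨x, hx⟩
  · exact Cfsg.Agent.H716.VzOut.exists_vz hna (Cfsg.Agent.H254.CopMain.two_dvd K (not_comm hna))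
      (Cfsg.Agent.H498.SporOut.index_le_two h)

end Cfsg.Agent.H716.VanRows
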